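import Mathlib
import Groth.Prelude.Def_LocRes

/-!
Continuity facts for maps of fields of Laurent series.
-/

set_option autoImplicit false
set_option linter.unusedSectionVars false

namespace Groth.Agent.H23Res

open WithZero HahnSeries

variable {F : Type*} [Field F] {F' : Type*} [Field F']

theorem val_le_iff {f : LaurentSeries F} (N : ℤ) :
    Valued.v f ≤ exp (-N) ↔ ∀ n : ℤ, n < N → f.coeff n = 0 :=
  LaurentSeries.valuation_le_iff_coeff_lt_eq_zero F

theorem eq_of_val_le {f g : LaurentSeries F}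
    (h : ∀ N : ℕ, Valued.v (f - g) ≤ exp (-(N : ℤ))) : f = g := by
  refine HahnSeries.ext (funext fun n => sub_eq_zero.1 ?_)
  rw [← HahnSeries.coeff_sub]
  exact (val_le_iff _).1 (h (n + 1).toNat) n (by omega)

/-- The variable. -/
noncomputable abbrev var (F : Type*) [Field F] : LaurentSeries F := HahnSeries.single (1 : ℤ) (1 : F)

theorem var_ne_zero : var F ≠ 0 := by simp [var]

theorem single_eq (n : ℤ) (c : F) : HahnSeries.single n c = HahnSeries.C c * var F ^ n := by
  rw [var, ← RatFunc.single_zpow, HahnSeries.C_mul_eq_smul]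
  ext m
  rcases eq_or_ne m n with rfl | h <;> simp [*]

theorem val_C {c : F} (hc : c ≠ 0) : Valued.v (HahnSeries.C c : LaurentSeries F) = 1 := by
  refine le_antisymm ?_ ?_
  · rw [← exp_zero, ← neg_zero, val_le_iff]
    intro n hn
    simp [hn.ne]
  · by_contra h
    rw [not_le] at h
    have h1 : Valued.v (HahnSeries.C c : LaurentSeries F) ≤ exp (-(1 : ℤ)) := by
      rcases eq_or_ne (Valued.v (HahnSeries.C c : LaurentSeries F)) 0 with h0 | h0
      · rw [h0]; exact zero_le
      · rw [← exp_log h0, ← exp_zero, exp_lt_exp] at h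
        rw [← exp_log h0, exp_le_exp]; omega
    have h2 := (val_le_iff 1).1 h1 0 (by norm_num)
    simp [hc] at h2

theorem val_C_le (c : F) : Valued.v (HahnSeries.C c : LaurentSeries F) ≤ 1 := by
  rcases eq_or_ne c 0 with rfl | hc
  · simp
  · exact (val_C hc).le

theorem val_var : Valued.v (var F) = exp (-1) := LaurentSeries.valuation_single_zpow F 1

theorem val_var_zpow (n : ℤ) : Valued.v (var F ^ n) = exp (-n) := by
  rw [map_zpow₀, val_var, ← exp_zsmul, smul_eq_mul, mul_neg, mul_one]

theorem res_eq_zero {f : LaurentSeries F} (h : Valued.v f ≤ 1) : LocRes.res F f = 0 :=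
  (val_le_iff 0).1 (by simpa using h) (-1) (by norm_num)

theorem res_D (f : LaurentSeries F) : LocRes.res F (LocRes.D F f) = 0 := by
  change (LocRes.D F f).coeff (-1) = 0
  rw [LocRes.D_coeff]; simp

theorem D_C (c : F) : LocRes.D F (HahnSeries.C c) = 0 := by
  rw [← LocRes.algebraMap_eq_C, Derivation.map_algebraMap]

theorem D_var : LocRes.D F (var F) = 1 := by
  refine HahnSeries.ext (funext fun n => ?_)
  rw [LocRes.D_coeff]
  rcases eq_or_ne n 0 with rfl | hn
  · simp
  · simp [hn, var]

theorem val_D_le {f : LaurentSeries F} {N : ℤ} (h : Valued.v f ≤ exp (-N)) :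
    Valued.v (LocRes.D F f) ≤ exp (-(N - 1)) := by
  rw [val_le_iff] at h ⊢
  intro n hn
  rw [LocRes.D_coeff, h (n + 1) (by omega), smul_zero]

theorem val_D_le_one {f : LaurentSeries F} (h : Valued.v f ≤ 1) : Valued.v (LocRes.D F f) ≤ 1 := by
  have h0 := (val_le_iff 0).1 (by simpa using h)
  rw [← exp_zero, ← neg_zero, val_le_iff]
  intro n hn
  rw [LocRes.D_coeff]
  rcases eq_or_ne n (-1) with rfl | hn'
  · simp
  · rw [h0 (n + 1) (by omega), smul_zero]

/-- A series is a finite sum of monomials up to arbitrarily small error. -/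
theorem exists_trunc (f : LaurentSeries F) (N : ℤ) : ∃ s : Finset ℤ, (∀ n ∈ s, n < N) ∧
    Valued.v (f - ∑ n ∈ s, HahnSeries.C (f.coeff n) * var F ^ n) ≤ exp (-N) := by
  classical
  refine ⟨Finset.Ico f.order N, fun n hn => (Finset.mem_Ico.1 hn).2, (val_le_iff N).2 fun n hn => ?_⟩
  rw [HahnSeries.coeff_sub, HahnSeries.coeff_sum, sub_eq_zero]
  simp only [← single_eq, HahnSeries.coeff_single]
  by_cases h : f.order ≤ n
  · refine Eq.symm ((Finset.sum_eq_single n (fun m _ hm => if_neg hm.symm)
      (fun hn' => absurd (Finset.mem_Ico.2 ⟨h, hn⟩) hn')).trans (if_pos rfl))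
  · rw [HahnSeries.coeff_eq_zero_of_lt_order (not_le.1 h), Finset.sum_eq_zero]
    intro m hm
    have := (Finset.mem_Ico.1 hm).1
    exact if_neg (by omega)

variable {θ : LaurentSeries F →+* LaurentSeries F'} {e : ℕ}

theorem val_map_le (hθ : ∀ a, Valued.v (θ a) = Valued.v a ^ e) {a : LaurentSeries F} {N : ℤ}
    (h : Valued.v a ≤ exp (-N)) : Valued.v (θ a) ≤ exp (-(e * N)) := by
  rw [hθ]
  refine (pow_le_pow_left₀ zero_le h e).trans_eq ?_
  rw [← exp_nsmul, nsmul_eq_mul]
  ring_nf

/-- Maps multiplying valuations are determined by constants and the variable. -/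
theorem hom_ext {θ' : LaurentSeries F →+* LaurentSeries F'} (he : 0 < e)
    (hθ : ∀ a, Valued.v (θ a) = Valued.v a ^ e) (hθ' : ∀ a, Valued.v (θ' a) = Valued.v a ^ e)
    (hC : ∀ c, θ (HahnSeries.C c) = θ' (HahnSeries.C c)) (hX : θ (var F) = θ' (var F)) : θ = θ' := by
  refine RingHom.ext fun a => eq_of_val_le fun N => ?_
  obtain ⟨s, -, hs⟩ := exists_trunc a N
  set b := a - ∑ n ∈ s, HahnSeries.C (a.coeff n) * var F ^ n with hb
  have heq : θ a - θ' a = θ b - θ' b := by
    simp only [hb, map_sub, map_sum, map_mul, map_zpow₀, hC, hX]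
    ring
  rw [heq]
  have hN : (N : ℤ) ≤ e * (N : ℤ) := le_mul_of_one_le_left (Int.natCast_nonneg N) (by omega)
  exact (Valued.v.map_sub _ _).trans (max_le ((val_map_le hθ hs).trans (exp_le_exp.2 (by omega)))
    ((val_map_le hθ' hs).trans (exp_le_exp.2 (by omega))))

/-- The chain rule. -/
theorem D_map {ι : F → F'} (he : 0 < e) (hθ : ∀ a, Valued.v (θ a) = Valued.v a ^ e)
    (hC : ∀ c, θ (HahnSeries.C c) = HahnSeries.C (ι c)) (a : LaurentSeries F) :
    LocRes.D F' (θ a) = θ (LocRes.D F a) * LocRes.D F' (θ (var F)) := by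
  refine eq_of_val_le fun N => ?_
  obtain ⟨s, -, hs⟩ := exists_trunc a ((N : ℤ) + 1)
  set b := a - ∑ n ∈ s, HahnSeries.C (a.coeff n) * var F ^ n with hb
  have hτ0 : θ (var F) ≠ 0 := (map_ne_zero θ).2 var_ne_zero
  have hmono : ∀ (n : ℤ) (c : F), LocRes.D F' (θ (HahnSeries.C c * var F ^ n)) =
      θ (LocRes.D F (HahnSeries.C c * var F ^ n)) * LocRes.D F' (θ (var F)) := by
    intro n c
    rw [map_mul, map_zpow₀, hC, Derivation.leibniz, D_C, Derivation.leibniz, D_C, smul_zero, add_zero,
      smul_zero, add_zero, Derivation.leibniz_zpow, Derivation.leibniz_zpow, D_var]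
    simp only [smul_eq_mul, zsmul_eq_mul, map_mul, map_intCast, map_zpow₀, hC, mul_one]
    ring
  have heq : LocRes.D F' (θ a) - θ (LocRes.D F a) * LocRes.D F' (θ (var F)) =
      LocRes.D F' (θ b) - θ (LocRes.D F b) * LocRes.D F' (θ (var F)) := by
    simp only [hb, map_sub, map_sum, sub_mul, Finset.sum_mul, hmono]
    ring
  rw [heq]
  have hN : (N : ℤ) + 1 ≤ e * ((N : ℤ) + 1) := le_mul_of_one_le_left (by omega) (by omega)
  have hN' : (N : ℤ) ≤ e * (((N : ℤ) + 1) - 1) := by
    rw [add_sub_cancel_right]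
    exact le_mul_of_one_le_left (Int.natCast_nonneg N) (by omega)
  refine (Valued.v.map_sub _ _).trans (max_le ((val_D_le (val_map_le hθ hs)).trans (exp_le_exp.2 (by omega))) ?_)
  rw [map_mul]
  refine (mul_le_mul' ((val_map_le hθ (val_D_le hs)).trans (exp_le_exp.2 (by omega)))
    (val_D_le_one ?_)).trans_eq (mul_one _)
  rw [hθ, val_var, ← exp_nsmul, ← exp_zero, exp_le_exp]
  simp

/-- A coefficient map of Laurent series. -/
noncomputable def mapHom (ι : F →+* F') : LaurentSeries F →+* LaurentSeries F' where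
  toFun x := x.map ι
  map_one' := by
    rw [← HahnSeries.C_one, ← HahnSeries.C_one]
    exact (HahnSeries.map_C 1 ι).trans (by rw [map_one])
  map_mul' _ _ := HahnSeries.map_mul (ι : F →ₙ+* F')
  map_zero' := HahnSeries.ext (funext fun n => by simp)
  map_add' x y := HahnSeries.ext (funext fun n => by simp)

@[simp]
theorem mapHom_coeff (ι : F →+* F') (x : LaurentSeries F) (n : ℤ) : (mapHom ι x).coeff n = ι (x.coeff n) := rfl

theorem mapHom_C (ι : F →+* F') (c : F) : mapHom ι (HahnSeries.C c) = HahnSeries.C (ι c) := HahnSeries.map_C c ι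

theorem mapHom_var (ι : F →+* F') : mapHom ι (var F) = var F' := by
  refine HahnSeries.ext (funext fun n => ?_)
  rcases eq_or_ne n 1 with rfl | hn <;> simp [var, *]

theorem val_mapHom (ι : F →+* F') (x : LaurentSeries F) : Valued.v (mapHom ι x) = Valued.v x := by
  have key : ∀ N : ℤ, Valued.v (mapHom ι x) ≤ exp (-N) ↔ Valued.v x ≤ exp (-N) := fun N => by
    simp only [val_le_iff, mapHom_coeff, map_eq_zero]
  rcases eq_or_ne x 0 with rfl | hx
  · simp
  have h1 : Valued.v x ≠ 0 := by simpa using hx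
  have h2 : Valued.v (mapHom ι x) ≠ 0 := by simpa using hx
  refine le_antisymm ?_ ?_
  · have := (key (-(log (Valued.v x)))).2 (by rw [neg_neg, exp_log h1])
    rwa [neg_neg, exp_log h1] at this
  · have := (key (-(log (Valued.v (mapHom ι x))))).1 (by rw [neg_neg, exp_log h2])
    rwa [neg_neg, exp_log h2] at this

/-- The target of a map of fields, as an algebra over the source. -/
def Tgt {A B : Type*} [Field A] [Field B] (_θ : A →+* B) : Type _ := B

noncomputable instance {A B : Type*} [Field A] [Field B] (θ : A →+* B) : Field (Tgt θ) :=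
  inferInstanceAs (Field B)

noncomputable instance {A B : Type*} [Field A] [Field B] (θ : A →+* B) : Algebra A (Tgt θ) :=
  RingHom.toAlgebra (S := Tgt θ) θ

/-- The trace along a map of fields. -/
noncomputable def tr {A B : Type*} [Field A] [Field B] (θ : A →+* B) : B →+ A where
  toFun b := Algebra.trace A (Tgt θ) (show Tgt θ from b)
  map_zero' := map_zero (Algebra.trace A (Tgt θ))
  map_add' x y := map_add (Algebra.trace A (Tgt θ)) (show Tgt θ from x) (show Tgt θ from y)

theorem tr_map_mul {A B : Type*} [Field A] [Field B] (θ : A →+* B) (a : A) (b : B) :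
    tr θ (θ a * b) = a * tr θ b := by
  change Algebra.trace A (Tgt θ) (a • (show Tgt θ from b)) = a • Algebra.trace A (Tgt θ) (show Tgt θ from b)
  rw [map_smul]

end Groth.Agent.H23Res
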