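import Mathlib

/-!
Division and evaluation for power series in two variables.
-/

set_option autoImplicit false
set_option linter.unusedSectionVars false

namespace Groth.Agent.H23Res

open PowerSeries

variable {F : Type*} [Field F]

/-- Evaluation of a series in a second variable at `t`. -/
noncomputable def evFun (t : (PowerSeries F)) (g : PowerSeries (PowerSeries F)) : (PowerSeries F) :=
  PowerSeries.mk fun m => ∑ n ∈ Finset.range (m + 1), coeff m (coeff n g * t ^ n)

variable {t : (PowerSeries F)} (ht : X ∣ t)
include ht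

theorem evFun_congr (g : PowerSeries (PowerSeries F)) (N : ℕ) :
    X ^ N ∣ evFun t g - (trunc N g).eval t := by
  rw [X_pow_dvd_iff]
  intro m hm
  rw [map_sub, sub_eq_zero, evFun, coeff_mk, Polynomial.eval_eq_sum_range' (n := N + 1)
    (Nat.lt_succ_of_le ?_), map_sum]
  · rw [Finset.sum_range_succ _ N, coeff_trunc, if_neg (lt_irrefl N), zero_mul, map_zero, add_zero,
      ← Finset.sum_subset (Finset.range_mono (Nat.succ_le_of_lt hm))]
    · refine Finset.sum_congr rfl fun n hn => ?_
      rw [coeff_trunc, if_pos (by rw [Finset.mem_range] at hn; omega)]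
    · intro n hn hn'
      rw [Finset.mem_range] at hn'
      exact X_pow_dvd_iff.1 (dvd_mul_of_dvd_right (pow_dvd_pow_of_dvd ht n) _) m (by omega)
  · refine Polynomial.natDegree_le_iff_coeff_eq_zero.2 fun n hn => ?_
    rw [coeff_trunc, if_neg (by omega)]

omit ht in
theorem eq_of_congr {a b : (PowerSeries F)} (h : ∀ N : ℕ, X ^ N ∣ a - b) : a = b := by
  ext m
  have := X_pow_dvd_iff.1 (h (m + 1)) m (Nat.lt_succ_self m)
  rwa [map_sub, sub_eq_zero] at this

/-- Evaluation at `t`, as a ring homomorphism. -/
noncomputable def ev : PowerSeries (PowerSeries F) →+* (PowerSeries F) where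
  toFun := evFun t
  map_zero' := eq_of_congr fun N => by simpa using evFun_congr ht 0 N
  map_one' := eq_of_congr fun N => by
    rcases Nat.eq_zero_or_pos N with rfl | hN
    · simp
    · obtain ⟨M, rfl⟩ := Nat.exists_eq_succ_of_ne_zero hN.ne'
      simpa using evFun_congr ht 1 (M + 1)
  map_add' g h := eq_of_congr fun N => by
    have := dvd_sub (dvd_sub (evFun_congr ht (g + h) N) (evFun_congr ht g N)) (evFun_congr ht h N)
    rw [map_add, Polynomial.eval_add] at this
    convert this using 1
    ring
  map_mul' g h := eq_of_congr fun N => by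
    have h1 : X ^ N ∣ (trunc N g * trunc N h).eval t - (trunc N (g * h)).eval t := by
      have hd : Polynomial.X ^ N ∣ trunc N g * trunc N h - trunc N (g * h) := by
        rw [Polynomial.X_pow_dvd_iff]
        intro n hn
        have := congrArg (fun p : Polynomial (PowerSeries F) => p.coeff n) (trunc_trunc_mul_trunc (f := g) (g := h) (n := N))
        simp only [coeff_trunc, if_pos hn] at this
        rw [Polynomial.coeff_sub, coeff_trunc, if_pos hn, ← this, sub_eq_zero, ← Polynomial.coeff_coe,
          Polynomial.coe_mul]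
      obtain ⟨w, hw⟩ := hd
      rw [← Polynomial.eval_sub, hw, Polynomial.eval_mul, Polynomial.eval_pow, Polynomial.eval_X]
      exact dvd_mul_of_dvd_left (pow_dvd_pow_of_dvd ht N) _
    have h2 := dvd_sub (evFun_congr ht (g * h) N)
      (((dvd_mul_of_dvd_left (evFun_congr ht g N) (evFun t h)).add
        (dvd_mul_of_dvd_right (evFun_congr ht h N) ((trunc N g).eval t))).add h1)
    rw [Polynomial.eval_mul] at h2
    convert h2 using 1
    ring

theorem ev_congr (g : PowerSeries (PowerSeries F)) (N : ℕ) : X ^ N ∣ ev ht g - (trunc N g).eval t := evFun_congr ht g N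

theorem ev_C (r : (PowerSeries F)) : ev ht (C r) = r := eq_of_congr fun N => by
  rcases Nat.eq_zero_or_pos N with rfl | hN
  · simp
  · obtain ⟨M, rfl⟩ := Nat.exists_eq_succ_of_ne_zero hN.ne'
    simpa [trunc_C] using ev_congr ht (C r) (M + 1)

theorem ev_X : ev ht (X : PowerSeries (PowerSeries F)) = t := eq_of_congr fun N => by
  rcases Nat.lt_or_ge N 2 with hN | hN
  · interval_cases N
    · simp
    · rw [pow_one]
      refine dvd_sub ?_ ht
      have h1 : trunc 1 (X : PowerSeries (PowerSeries F)) = 0 := by
        ext n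
        rw [coeff_trunc]
        split_ifs with h
        · obtain rfl : n = 0 := by omega
          simp
        · simp
      simpa [h1] using ev_congr ht (X : PowerSeries (PowerSeries F)) 1
  · obtain ⟨M, rfl⟩ := Nat.exists_eq_add_of_le hN
    have h := ev_congr ht (X : PowerSeries (PowerSeries F)) (2 + M)
    rwa [show 2 + M = M + 1 + 1 by omega, trunc_X, Polynomial.eval_X, ← show 2 + M = M + 1 + 1 by omega] at h

omit ht

/-- The part of degree at least `e`, divided by `X ^ e`. -/
noncomputable def shiftBy (e : ℕ) (x : (PowerSeries F)) : (PowerSeries F) := mk fun m => coeff (m + e) x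

theorem coeff_sub_shiftBy (e : ℕ) (x : (PowerSeries F)) (m : ℕ) :
    coeff m (x - X ^ e * shiftBy e x) = if m < e then coeff m x else 0 := by
  rw [map_sub, coeff_X_pow_mul']
  rcases Nat.lt_or_ge m e with h | h
  · simp [h, not_le.2 h]
  · simp [h, not_lt.2 h, shiftBy, Nat.sub_add_cancel h]

/-- Quotient coefficients. -/
noncomputable def quotCoeff (e : ℕ) (w : (PowerSeries F)) (g p : PowerSeries (PowerSeries F)) : ℕ → (PowerSeries F)
  | n => w * shiftBy e (coeff n g - ∑ i : Fin n, quotCoeff e w g p i * coeff (n - i) p)
  termination_by n => n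
  decreasing_by exact i.2

/-- Division by a series whose constant term has order `e`. -/
theorem exists_division {e : ℕ} (p : PowerSeries (PowerSeries F)) {u : (PowerSeries F)} (hu : IsUnit u) (hp : coeff 0 p = X ^ e * u)
    (g : PowerSeries (PowerSeries F)) : ∃ q r : PowerSeries (PowerSeries F), g = q * p + r ∧ ∀ n m, e ≤ m → coeff m (coeff n r) = 0 := by
  obtain ⟨w, hw⟩ := hu.exists_right_inv
  refine ⟨mk (quotCoeff e w g p), g - mk (quotCoeff e w g p) * p, by ring, fun n m hm => ?_⟩
  set x := coeff n g - ∑ i : Fin n, quotCoeff e w g p i * coeff (n - i) p with hx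
  have hq : quotCoeff e w g p n = w * shiftBy e x := by rw [quotCoeff]
  have heq : coeff n (g - mk (quotCoeff e w g p) * p) = x - X ^ e * shiftBy e x := by
    rw [map_sub, coeff_mul, Finset.Nat.sum_antidiagonal_eq_sum_range_succ_mk, Finset.sum_range_succ]
    simp only [coeff_mk, Nat.sub_self]
    rw [hp, hq, hx, ← Fin.sum_univ_eq_sum_range (fun i => quotCoeff e w g p i * coeff (n - i) p) n]
    linear_combination (-(X ^ e * shiftBy e x)) * hw
  rw [heq, coeff_sub_shiftBy, if_neg (not_lt.2 hm)]

/-- A series of bounded degree in the first variable, as a combination of monomials. -/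
theorem eq_sum_of_bounded {e : ℕ} {r : PowerSeries (PowerSeries F)} (hr : ∀ n m, e ≤ m → coeff m (coeff n r) = 0) :
    r = ∑ j ∈ Finset.range e, map C (mk fun n => coeff j (coeff n r)) * C (X ^ j) := by
  ext n m
  simp only [map_sum, coeff_mul_C, coeff_map, coeff_mk, coeff_C_mul, coeff_X_pow, mul_ite, mul_one, mul_zero]
  rw [Finset.sum_ite_eq]
  split_ifs with h
  · rfl
  · exact hr n m (by rw [Finset.mem_range] at h; omega)

end Groth.Agent.H23Res
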