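import Mathlib
import Groth.Agent.H23Res.Basic
import Groth.Agent.H23Res.Division

/-!
The residue and trace along a substitution `X ↦ t` of a series of order `e ≥ 1`.
-/

set_option autoImplicit false
set_option linter.unusedSectionVars false
set_option linter.unusedVariables false
set_option linter.style.haveILetI false

namespace Groth.Agent.H23Res

open WithZero PowerSeries

variable {F : Type*} [Field F]

local notation "co" => HahnSeries.ofPowerSeries ℤ F

theorem val_co_le (f : PowerSeries F) : Valued.v (co f : LaurentSeries F) ≤ 1 :=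
  (LaurentSeries.val_le_one_iff_eq_coe F _).2 ⟨f, rfl⟩

theorem val_co_unit {f : PowerSeries F} (hf : IsUnit f) : Valued.v (co f : LaurentSeries F) = 1 := by
  obtain ⟨g, hg⟩ := hf.exists_right_inv
  refine le_antisymm (val_co_le f) ?_
  have h := congrArg (fun x => Valued.v (co x : LaurentSeries F)) hg
  simp only [map_mul, map_one] at h
  exact h.symm.trans_le (mul_le_of_le_one_right zero_le (val_co_le g))

theorem co_X : (co X : LaurentSeries F) = var F := HahnSeries.ofPowerSeries_X

theorem exists_decomp {a : LaurentSeries F} (ha : a ≠ 0) :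
    ∃ (n : ℤ) (f : PowerSeries F), IsUnit f ∧ a = var F ^ n * co f := by
  refine ⟨a.order, a.powerSeriesPart, ?_, ?_⟩
  · rw [PowerSeries.isUnit_iff_constantCoeff, isUnit_iff_ne_zero, ← PowerSeries.coeff_zero_eq_constantCoeff_apply,
      LaurentSeries.powerSeriesPart_coeff]
    simp [HahnSeries.coeff_order_eq_zero, ha]
  · rw [var, ← RatFunc.single_zpow]
    exact (LaurentSeries.single_order_mul_powerSeriesPart a).symm

theorem coeff_mul_eq_zero_of_gt {x y : LaurentSeries F} {A B : ℤ} (hx : ∀ k, A < k → x.coeff k = 0)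
    (hy : ∀ k, B < k → y.coeff k = 0) {k : ℤ} (hk : A + B < k) : (x * y).coeff k = 0 := by
  rw [HahnSeries.coeff_mul]
  refine Finset.sum_eq_zero fun ij hij => ?_
  rw [Finset.mem_addAntidiagonal] at hij
  rcases lt_or_ge A ij.1 with h | h
  · rw [hx _ h, zero_mul]
  · rw [hy _ (by omega), mul_zero]

/-- A substitution of order `e`. -/
structure Subst (F : Type*) [Field F] where
  /-- The image of the variable. -/
  t : PowerSeries F
  /-- Its order. -/
  e : ℕ
  /-- Its unit part. -/
  u : PowerSeries F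
  pos : 0 < e
  isUnit : IsUnit u
  eq : t = X ^ e * u

namespace Subst

variable (S : Subst F)

theorem cc_map {A B : Type*} [CommRing A] [CommRing B] (f : A →+* B) (g : PowerSeries A) :
    constantCoeff (PowerSeries.map f g) = f (constantCoeff g) := by
  rw [← coeff_zero_eq_constantCoeff_apply, PowerSeries.coeff_map, coeff_zero_eq_constantCoeff_apply]

theorem dvd : X ∣ S.t := by
  rw [S.eq]; exact dvd_mul_of_dvd_left (dvd_pow_self _ S.pos.ne') _

theorem t_ne_zero : S.t ≠ 0 := by
  rw [S.eq]; exact mul_ne_zero (pow_ne_zero _ X_ne_zero) S.isUnit.ne_zero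

/-- The substitution on power series. -/
noncomputable def sub : PowerSeries F →+* PowerSeries F := (ev S.dvd).comp (PowerSeries.map C)

theorem sub_C (c : F) : S.sub (C c) = C c := by rw [sub, RingHom.comp_apply, PowerSeries.map_C, ev_C]

theorem sub_X : S.sub X = S.t := by rw [sub, RingHom.comp_apply, PowerSeries.map_X, ev_X]

theorem val_sub_unit {f : PowerSeries F} (hf : IsUnit f) : Valued.v (co (S.sub f) : LaurentSeries F) = 1 :=
  val_co_unit (hf.map _)

theorem val_t : Valued.v (co S.t : LaurentSeries F) = exp (-(S.e : ℤ)) := by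
  rw [S.eq, map_mul, map_pow, map_mul, map_pow, co_X, val_var, val_co_unit S.isUnit, mul_one, ← exp_nsmul]
  simp

theorem sub_injective : Function.Injective S.sub := by
  rw [injective_iff_map_eq_zero]
  intro f hf
  by_contra hne
  have hu := PowerSeries.isUnit_divided_by_X_pow_order hne
  have h1 := congrArg S.sub (PowerSeries.X_pow_order_mul_divXPowOrder (f := f))
  rw [hf, map_mul, map_pow, sub_X] at h1
  exact mul_ne_zero (pow_ne_zero _ S.t_ne_zero) (hu.map S.sub).ne_zero h1

/-- The substitution on Laurent series. -/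
noncomputable def hom : LaurentSeries F →+* LaurentSeries F :=
  IsFractionRing.lift (A := PowerSeries F) (g := (co).comp S.sub)
    (HahnSeries.ofPowerSeries_injective.comp S.sub_injective)

theorem hom_co (f : PowerSeries F) : S.hom (co f) = co (S.sub f) :=
  IsFractionRing.lift_algebraMap (A := PowerSeries F) _ f

theorem hom_var : S.hom (var F) = co S.t := by rw [← co_X, hom_co, sub_X]

theorem hom_C (c : F) : S.hom (HahnSeries.C c) = HahnSeries.C c := by
  rw [← HahnSeries.ofPowerSeries_C, hom_co, sub_C]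

theorem val_hom (a : LaurentSeries F) : Valued.v (S.hom a) = Valued.v a ^ S.e := by
  rcases eq_or_ne a 0 with rfl | ha
  · simp [zero_pow S.pos.ne']
  obtain ⟨n, f, hf, rfl⟩ := exists_decomp ha
  rw [map_mul, map_zpow₀, hom_var, hom_co, map_mul, map_zpow₀, val_t, S.val_sub_unit hf, map_mul,
    val_co_unit hf, val_var_zpow, mul_one, mul_one, ← exp_zsmul, ← exp_nsmul]
  congr 1
  simp [mul_comm]

/-- The data of division by the defining series. -/
theorem exists_relation : ∃ (c : ℕ → PowerSeries F) (q : PowerSeries (PowerSeries F)), IsUnit q ∧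
    C (X ^ S.e) - ∑ j ∈ Finset.range S.e, PowerSeries.map C (c j) * C (X ^ j) = q * (C S.t - X) := by
  have hp : coeff 0 (C S.t - X : PowerSeries (PowerSeries F)) = X ^ S.e * S.u := by
    rw [map_sub, coeff_zero_C, coeff_zero_X, sub_zero, S.eq]
  obtain ⟨q, r, hqr, hr⟩ := exists_division (C S.t - X) S.isUnit hp (C (X ^ S.e))
  refine ⟨fun j => PowerSeries.mk fun n => coeff j (coeff n r), q, ?_, ?_⟩
  · have h0 := congrArg (coeff 0) hqr
    rw [coeff_zero_C, map_add, coeff_zero_eq_constantCoeff_apply, map_mul, ← coeff_zero_eq_constantCoeff_apply,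
      ← coeff_zero_eq_constantCoeff_apply, hp] at h0
    rw [PowerSeries.isUnit_iff_constantCoeff, PowerSeries.isUnit_iff_constantCoeff,
      ← coeff_zero_eq_constantCoeff_apply, ← coeff_zero_eq_constantCoeff_apply, isUnit_iff_ne_zero]
    intro hq
    have h1 := congrArg (coeff S.e) h0
    rw [coeff_X_pow_self, map_add, hr 0 S.e le_rfl, add_zero, mul_comm (coeff 0 q), mul_assoc,
      coeff_X_pow_mul', if_pos le_rfl, Nat.sub_self, coeff_zero_eq_constantCoeff_apply, map_mul,
      ← coeff_zero_eq_constantCoeff_apply, ← coeff_zero_eq_constantCoeff_apply, hq, mul_zero] at h1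
    exact one_ne_zero h1
  · rw [← eq_sum_of_bounded hr]
    linear_combination hqr

theorem ev_sum (c : ℕ → PowerSeries F) :
    ev S.dvd (∑ j ∈ Finset.range S.e, PowerSeries.map C (c j) * C (X ^ j)) =
      ∑ j ∈ Finset.range S.e, S.sub (c j) * X ^ j := by
  rw [map_sum]
  exact Finset.sum_congr rfl fun j _ => by rw [map_mul, ev_C]; rfl

/-- The powers of the variable are independent. -/
theorem sum_eq_zero_iff (a : Fin S.e → LaurentSeries F)
    (h : ∑ j, S.hom (a j) * var F ^ (j : ℕ) = 0) : ∀ j, a j = 0 := by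
  classical
  by_contra hne
  simp only [not_forall] at hne
  set T := Finset.univ.filter fun j => a j ≠ 0
  have hT : T.Nonempty := ⟨hne.choose, Finset.mem_filter.2 ⟨Finset.mem_univ _, hne.choose_spec⟩⟩
  obtain ⟨j₀, hj₀, hmax⟩ := T.exists_max_image (fun j => Valued.v (S.hom (a j) * var F ^ (j : ℕ))) hT
  have hv : ∀ j, a j ≠ 0 → ∃ m : ℤ, Valued.v (S.hom (a j) * var F ^ (j : ℕ)) = exp ((S.e : ℤ) * m - j) := by
    intro j hj
    refine ⟨log (Valued.v (a j)), ?_⟩
    rw [map_mul, map_pow, S.val_hom, val_var, ← exp_nsmul]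
    conv_lhs => rw [← exp_log (show Valued.v (a j) ≠ 0 by simpa using hj)]
    rw [← exp_nsmul, ← exp_add]
    congr 1
    simp [sub_eq_add_neg]
  have ha₀ : a j₀ ≠ 0 := (Finset.mem_filter.1 hj₀).2
  have h2 := congrArg Valued.v h
  rw [map_zero, Valued.v.map_sum_eq_of_lt (j := j₀) (Finset.mem_univ _)] at h2
  · obtain ⟨m, hm⟩ := hv j₀ ha₀
    rw [hm] at h2
    exact exp_ne_zero h2
  · intro j hj
    have hjj : j ≠ j₀ := fun e => by simp [e] at hj
    rcases eq_or_ne (a j) 0 with h0 | h0
    · obtain ⟨m, hm⟩ := hv j₀ ha₀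
      rw [h0, map_zero, zero_mul, map_zero, hm]
      exact exp_pos
    refine lt_of_le_of_ne (hmax j (Finset.mem_filter.2 ⟨Finset.mem_univ _, h0⟩)) ?_
    obtain ⟨m, hm⟩ := hv j h0
    obtain ⟨m', hm'⟩ := hv j₀ ha₀
    rw [hm, hm', ne_eq, exp_inj]
    intro he
    refine hjj (Fin.ext ?_)
    have h3 : ((j : ℕ) : ℤ) % S.e = ((j₀ : ℕ) : ℤ) % S.e := by
      rw [show ((j : ℕ) : ℤ) = (j₀ : ℕ) + (S.e : ℤ) * (m - m') by linear_combination -he,
        Int.add_mul_emod_self_left]
    rw [Int.emod_eq_of_lt (by omega) (by exact_mod_cast j.2), Int.emod_eq_of_lt (by omega) (by exact_mod_cast j₀.2)] at h3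
    exact_mod_cast h3

/-- Every series is a combination of the first powers of the variable. -/
theorem exists_coord (g : LaurentSeries F) :
    ∃ a : Fin S.e → LaurentSeries F, g = ∑ j, S.hom (a j) * var F ^ (j : ℕ) := by
  rcases eq_or_ne g 0 with rfl | hg
  · exact ⟨0, by simp⟩
  obtain ⟨n, f, hf, rfl⟩ := exists_decomp hg
  -- multiply by a power of `t`
  obtain ⟨N, hN⟩ : ∃ N : ℕ, 0 ≤ n + (S.e : ℤ) * N := by
    refine ⟨n.natAbs, ?_⟩
    have : (n.natAbs : ℤ) ≤ (S.e : ℤ) * n.natAbs := le_mul_of_one_le_left (by omega) (by have := S.pos; omega)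
    omega
  obtain ⟨M, hM⟩ := Int.eq_ofNat_of_zero_le hN
  set G : PowerSeries F := X ^ M * S.u ^ N * f with hG
  have hGg : (co G : LaurentSeries F) = S.hom (var F) ^ N * (var F ^ n * co f) := by
    have hh : var F ^ M = (var F ^ S.e) ^ N * var F ^ n := by
      rw [← pow_mul, ← zpow_natCast, ← zpow_natCast, ← zpow_add₀ var_ne_zero]
      congr 1
      push_cast
      linarith
    rw [hG, hom_var, S.eq, map_mul, map_mul, map_mul, map_pow, map_pow, map_pow, co_X, hh, mul_pow]
    ring
  have hp : coeff 0 (C S.t - X : PowerSeries (PowerSeries F)) = X ^ S.e * S.u := by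
    rw [map_sub, coeff_zero_C, coeff_zero_X, sub_zero, S.eq]
  obtain ⟨q, r, hqr, hr⟩ := exists_division (C S.t - X) S.isUnit hp (C G)
  have h1 := congrArg (ev S.dvd) hqr
  rw [ev_C, map_add, map_mul, map_sub, ev_C, ev_X, sub_self, mul_zero, zero_add, eq_sum_of_bounded hr,
    ev_sum] at h1
  refine ⟨fun j => (var F ^ N)⁻¹ * co (PowerSeries.mk fun n => coeff j (coeff n r)), ?_⟩
  have hτ : S.hom (var F) ^ N ≠ 0 := pow_ne_zero _ ((map_ne_zero _).2 var_ne_zero)
  refine mul_left_cancel₀ hτ ?_
  rw [← hGg, h1, map_sum, Finset.mul_sum, Finset.sum_range]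
  refine Finset.sum_congr rfl fun j _ => ?_
  rw [map_mul, map_mul, map_inv₀, map_pow S.hom, hom_co, map_pow, co_X, ← mul_assoc,
    ← mul_assoc, mul_inv_cancel₀ hτ, one_mul]

/-- Coefficientwise differentiation in the first variable. -/
noncomputable def dS : PowerSeries (PowerSeries F) →+ PowerSeries (PowerSeries F) where
  toFun g := PowerSeries.mk fun n => PowerSeries.derivative F (coeff n g)
  map_zero' := by ext n : 1; simp
  map_add' a b := by ext n : 1; simp

theorem dS_mul (a b : PowerSeries (PowerSeries F)) : dS (a * b) = dS a * b + a * dS b := by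
  refine PowerSeries.ext fun n => ?_
  simp only [dS, AddMonoidHom.coe_mk, ZeroHom.coe_mk, map_add, coeff_mul, coeff_mk, map_sum,
    Derivation.leibniz, smul_eq_mul, Finset.sum_add_distrib]
  rw [add_comm]
  congr 1
  exact Finset.sum_congr rfl fun _ _ => mul_comm _ _

theorem dS_C (r : PowerSeries F) : dS (C r) = C (PowerSeries.derivative F r) := by
  refine PowerSeries.ext fun n => ?_
  simp only [dS, AddMonoidHom.coe_mk, ZeroHom.coe_mk, coeff_mk, coeff_C]
  split_ifs <;> simp

theorem dS_X : dS (X : PowerSeries (PowerSeries F)) = 0 := by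
  refine PowerSeries.ext fun n => ?_
  simp only [dS, AddMonoidHom.coe_mk, ZeroHom.coe_mk, coeff_mk, coeff_X]
  split_ifs <;> simp

theorem dS_map_C (c : PowerSeries F) : dS (PowerSeries.map C c) = 0 := by
  refine PowerSeries.ext fun n => ?_
  simp [dS]

theorem D_co (f : PowerSeries F) : LocRes.D F (co f) = co (PowerSeries.derivative F f) := LocRes.D_coe F f

/-- The key residues. -/
theorem exists_key : ∃ (c : ℕ → PowerSeries F) (h : PowerSeries F),
    X ^ S.e - ∑ j ∈ Finset.range S.e, S.sub (c j) * X ^ j = 0 ∧ IsUnit h ∧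
    h * ((S.e : PowerSeries F) * X ^ (S.e - 1) -
      ∑ j ∈ Finset.range S.e, S.sub (c j) * ((j : PowerSeries F) * X ^ (j - 1))) = PowerSeries.derivative F S.t ∧
    ∀ (j : ℕ) (n : ℕ), j < S.e →
      LocRes.res F (var F ^ j * co h * ((co S.t : LaurentSeries F) ^ (n + 1))⁻¹) =
        if j + 1 = S.e ∧ n = 0 then 1 else 0 := by
  obtain ⟨c, q, hq, hrel⟩ := S.exists_relation
  set f := C (X ^ S.e) - ∑ j ∈ Finset.range S.e, PowerSeries.map C (c j) * C (X ^ j) with hf
  obtain ⟨h, hh⟩ := hq.exists_left_inv
  have hhf : h * f = C S.t - X := by rw [hrel, ← mul_assoc, hh, one_mul]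
  have hevf : ev S.dvd f = 0 := by rw [hrel, map_mul, map_sub, ev_C, ev_X, sub_self, mul_zero]
  have hhu : IsUnit h := IsUnit.of_mul_eq_one _ hh
  refine ⟨c, ev S.dvd h, ?_, hhu.map _, ?_, ?_⟩
  · rwa [hf, map_sub, ev_C, ev_sum] at hevf
  · have h1 := congrArg (fun x => ev S.dvd (dS x)) hhf
    simp only [dS_mul, map_add, map_mul, hevf, mul_zero, zero_add, map_sub, dS_C, dS_X, sub_zero, ev_C] at h1
    rw [← h1]
    congr 1
    rw [hf, map_sub, dS_C, map_sub, ev_C, map_sum, map_sum, Derivation.leibniz_pow, PowerSeries.derivative_X,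
      smul_eq_mul, mul_one, nsmul_eq_mul]
    congr 1
    refine Finset.sum_congr rfl fun j _ => ?_
    rw [dS_mul, dS_map_C, zero_mul, zero_add, dS_C, map_mul, ev_C, Derivation.leibniz_pow,
      PowerSeries.derivative_X, smul_eq_mul, mul_one, nsmul_eq_mul]
    rfl
  -- the inverse of `f` over Laurent series
  let ι : PowerSeries (PowerSeries F) →+* PowerSeries (LaurentSeries F) := PowerSeries.map (co)
  have hf0 : constantCoeff (ι f) = var F ^ S.e := by
    have hc0 : ∀ j ∈ Finset.range S.e, constantCoeff (c j) = 0 := by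
      intro j hj
      have h0 := congrArg (coeff j) (congrArg (constantCoeff) hrel)
      simp only [hf, map_sub, map_sum, map_mul, constantCoeff_C, constantCoeff_X, sub_zero, cc_map,
        coeff_C_mul, coeff_X_pow, mul_ite, mul_one, mul_zero, Finset.sum_ite_eq, if_pos hj] at h0
      rw [if_neg (Finset.mem_range.1 hj).ne, S.eq, mul_left_comm, coeff_X_pow_mul',
        if_neg (not_le.2 (Finset.mem_range.1 hj)), zero_sub] at h0
      exact neg_eq_zero.1 h0
    rw [cc_map, hf, map_sub, map_sum, constantCoeff_C, map_sub, map_pow, co_X, sub_eq_self]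
    rw [map_sum]
    refine Finset.sum_eq_zero fun j hj => ?_
    rw [map_mul, cc_map, hc0 j hj, map_zero, zero_mul, map_zero]
  set H := (ι f)⁻¹ with hH
  have hfH : ι f * H = 1 := PowerSeries.mul_inv_cancel _ (by rw [hf0]; exact pow_ne_zero _ var_ne_zero)
  have hιh : ι h = H * (C (co S.t) - X) := by
    have h1 := congrArg ι hhf
    rw [map_mul, map_sub ι (C S.t) X, PowerSeries.map_C, PowerSeries.map_X] at h1
    calc ι h = ι h * (ι f * H) := by rw [hfH, mul_one]
      _ = _ := by rw [← mul_assoc, h1]; ring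
  set τ : LaurentSeries F := co S.t with hτdef
  have hτ : τ ≠ 0 := (map_ne_zero_iff _ HahnSeries.ofPowerSeries_injective).2 S.t_ne_zero
  have htel : ∀ n, ∑ m ∈ Finset.range (n + 1), coeff m (ι h) * τ ^ m = τ ^ (n + 1) * coeff n H := by
    intro n
    induction n with
    | zero =>
      rw [Finset.sum_range_one, hιh, coeff_zero_eq_constantCoeff_apply, map_mul, map_sub, constantCoeff_C,
        constantCoeff_X, sub_zero, coeff_zero_eq_constantCoeff_apply, pow_zero, mul_one, pow_one, mul_comm]
    | succ n ih =>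
      rw [Finset.sum_range_succ, ih, hιh, mul_sub, map_sub, coeff_mul_C, coeff_succ_mul_X, pow_succ τ (n + 1)]
      ring
  have hbd : ∀ n (k : ℤ), -(S.e : ℤ) - (if n = 0 then 0 else 1) < k → (coeff n H).coeff k = 0 := by
    intro n
    induction n using Nat.strong_induction_on with
    | _ n ih =>
      intro k hk
      have hH0 : coeff 0 H = var F ^ (-(S.e : ℤ)) := by
        rw [coeff_zero_eq_constantCoeff_apply, hH, PowerSeries.constantCoeff_inv, hf0, zpow_neg, zpow_natCast]
      rcases Nat.eq_zero_or_pos n with rfl | hn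
      · rw [hH0, var, ← RatFunc.single_zpow]
        simp only [if_true, sub_zero] at hk
        exact HahnSeries.coeff_single_of_ne (by omega)
      rw [if_neg hn.ne'] at hk
      have h1 := congrArg (coeff n) hfH
      rw [coeff_mul, coeff_one, if_neg hn.ne', Finset.Nat.sum_antidiagonal_eq_sum_range_succ_mk,
        Finset.sum_range_succ', Nat.sub_zero, coeff_zero_eq_constantCoeff_apply, hf0] at h1
      have h2 : coeff n H = var F ^ (-(S.e : ℤ)) *
          -(∑ i ∈ Finset.range n, coeff (i + 1) (ι f) * coeff (n - (i + 1)) H) := by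
        rw [eq_comm, zpow_neg, zpow_natCast, inv_mul_eq_iff_eq_mul₀ (pow_ne_zero _ var_ne_zero)]
        linear_combination -h1
      rw [h2]
      refine coeff_mul_eq_zero_of_gt (A := -(S.e : ℤ)) (B := -1) (fun m hm => ?_) (fun m hm => ?_) (by omega)
      · rw [var, ← RatFunc.single_zpow]; exact HahnSeries.coeff_single_of_ne (by omega)
      rw [HahnSeries.coeff_neg, HahnSeries.coeff_sum, neg_eq_zero]
      refine Finset.sum_eq_zero fun i hi => coeff_mul_eq_zero_of_gt (A := (S.e : ℤ) - 1) (B := -(S.e : ℤ))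
        (fun l hl => ?_) (fun l hl => ih _ (by rw [Finset.mem_range] at hi; omega) l (by split_ifs <;> omega)) (by omega)
      obtain ⟨L, rfl⟩ := Int.eq_ofNat_of_zero_le (show 0 ≤ l by have := S.pos; omega)
      rw [PowerSeries.coeff_map, LaurentSeries.coeff_coe_powerSeries, hf, map_sub, coeff_C,
        if_neg (Nat.succ_ne_zero i), zero_sub, map_sum, map_neg, map_sum, neg_eq_zero]
      refine Finset.sum_eq_zero fun j hj => ?_
      rw [coeff_mul_C, PowerSeries.coeff_map, coeff_C_mul, coeff_X_pow,
        if_neg (by rw [Finset.mem_range] at hj; omega), mul_zero]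
  intro j n hj
  -- split off the part divisible by `t ^ (n + 1)`
  obtain ⟨w, hw⟩ : X ^ (n + 1) ∣ h - ((trunc (n + 1) h : Polynomial (PowerSeries F)) : PowerSeries (PowerSeries F)) := by
    rw [X_pow_dvd_iff]
    intro m hm
    rw [map_sub, Polynomial.coeff_coe, coeff_trunc, if_pos hm, sub_self]
  have hsplit : (co (ev S.dvd h) : LaurentSeries F) =
      τ ^ (n + 1) * coeff n H + τ ^ (n + 1) * co (ev S.dvd w) := by
    rw [← htel, hτdef, ← map_pow (co), ← map_mul (co)]
    rw [sub_eq_iff_eq_add] at hw
    conv_lhs => rw [hw]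
    rw [map_add, map_mul, map_pow, ev_X, map_add, add_comm]
    congr 1
    have htr : ((trunc (n + 1) h : Polynomial (PowerSeries F)) : PowerSeries (PowerSeries F)) =
        ∑ m ∈ Finset.range (n + 1), C (coeff m h) * X ^ m := by
      refine PowerSeries.ext fun m => ?_
      simp only [Polynomial.coeff_coe, coeff_trunc, map_sum, coeff_C_mul, coeff_X_pow, mul_ite, mul_one,
        mul_zero, Finset.sum_ite_eq, Finset.mem_range]
    rw [htr, map_sum, map_sum]
    refine Finset.sum_congr rfl fun m _ => ?_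
    rw [map_mul, map_mul, ev_C, map_pow, ev_X, PowerSeries.coeff_map, map_pow]
  rw [hsplit, show var F ^ j * (τ ^ (n + 1) * coeff n H + τ ^ (n + 1) * co (ev S.dvd w)) * (τ ^ (n + 1))⁻¹ =
    var F ^ j * coeff n H + var F ^ j * co (ev S.dvd w) by field_simp]
  rw [map_add, res_eq_zero (f := var F ^ j * co (ev S.dvd w)) ?_, add_zero]
  · change (var F ^ j * coeff n H).coeff (-1) = _
    rw [var, ← RatFunc.single_one_eq_pow, show (-1 : ℤ) = (-1 - (j : ℤ)) + (j : ℤ) by ring,
      HahnSeries.coeff_single_mul_add, one_mul]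
    by_cases hc : j + 1 = S.e ∧ n = 0
    · obtain ⟨hj', rfl⟩ := hc
      rw [if_pos ⟨hj', rfl⟩, coeff_zero_eq_constantCoeff_apply, hH, PowerSeries.constantCoeff_inv, hf0,
        ← zpow_natCast, ← zpow_neg, var, ← RatFunc.single_zpow, show (-1 - (j : ℤ)) = -(S.e : ℤ) by omega,
        HahnSeries.coeff_single_same]
    · rw [if_neg hc]
      rcases Nat.eq_zero_or_pos n with rfl | hn
      · exact hbd 0 _ (by simp at hc; simp; omega)
      · exact hbd n _ (by rw [if_neg hn.ne']; omega)
  · rw [map_mul]
    exact mul_le_one' (by rw [map_pow, val_var]; exact pow_le_one₀ zero_le (by rw [← exp_zero, exp_le_exp]; norm_num)) (val_co_le _)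

theorem res_mul_C_zpow (n : ℤ) (c : F) :
    LocRes.res F (HahnSeries.C c * var F ^ n) = if n = -1 then c else 0 := by
  change (HahnSeries.C c * var F ^ n).coeff (-1) = _
  rw [← single_eq]
  split_ifs with h
  · rw [h, HahnSeries.coeff_single_same]
  · exact HahnSeries.coeff_single_of_ne (Ne.symm h)

theorem res_C_mul (c : F) (y : LaurentSeries F) :
    LocRes.res F (HahnSeries.C c * y) = c * LocRes.res F y := by
  change (HahnSeries.C c * y).coeff (-1) = c * y.coeff (-1)
  rw [HahnSeries.C_mul_eq_smul, HahnSeries.coeff_smul, smul_eq_mul]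

/-- Residues against the dual of the monomial basis. -/
theorem res_basis {h : PowerSeries F}
    (hkey : ∀ (j : ℕ) (n : ℕ), j < S.e →
      LocRes.res F (var F ^ j * co h * ((co S.t : LaurentSeries F) ^ (n + 1))⁻¹) =
        if j + 1 = S.e ∧ n = 0 then 1 else 0) {j : ℕ} (hj : j < S.e) (y : LaurentSeries F) :
    LocRes.res F (S.hom y * (var F ^ j * co h)) = if j + 1 = S.e then LocRes.res F y else 0 := by
  obtain ⟨T, hT, hTy⟩ := exists_trunc y 0
  set r := y - ∑ n ∈ T, HahnSeries.C (y.coeff n) * var F ^ n with hr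
  have hy : y = r + ∑ n ∈ T, HahnSeries.C (y.coeff n) * var F ^ n := by rw [hr, sub_add_cancel]
  have h0 : LocRes.res F (S.hom r * (var F ^ j * co h)) = 0 := by
    refine res_eq_zero ?_
    rw [map_mul, map_mul, map_pow, val_var]
    refine mul_le_one' ((val_map_le S.val_hom hTy).trans_eq (by simp))
      (mul_le_one' (pow_le_one₀ zero_le ?_) (val_co_le _))
    rw [← exp_zero, exp_le_exp]; norm_num
  have hmono : ∀ n ∈ T, LocRes.res F (S.hom (HahnSeries.C (y.coeff n) * var F ^ n) * (var F ^ j * co h)) =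
      if j + 1 = S.e then LocRes.res F (HahnSeries.C (y.coeff n) * var F ^ n) else 0 := by
    intro n hn
    obtain ⟨N, rfl⟩ : ∃ N : ℕ, n = -((N + 1 : ℕ) : ℤ) := by
      refine ⟨(-n - 1).toNat, ?_⟩
      have := hT n hn
      omega
    rw [map_mul S.hom, map_zpow₀ S.hom, S.hom_C, S.hom_var, mul_assoc, res_C_mul, res_mul_C_zpow, zpow_neg, zpow_natCast,
      mul_comm (((co S.t : LaurentSeries F)) ^ (N + 1))⁻¹, hkey j N hj]
    by_cases h1 : j + 1 = S.e
    · rcases Nat.eq_zero_or_pos N with rfl | hN
      · simp [h1]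
      · rw [if_neg (fun h => hN.ne' h.2), if_pos h1, if_neg (by omega), mul_zero]
    · rw [if_neg (fun h => h1 h.1), if_neg h1, mul_zero]
  conv_lhs => rw [hy, map_add, add_mul, map_add, h0, zero_add, map_sum, Finset.sum_mul, map_sum,
    Finset.sum_congr rfl hmono]
  split_ifs with h1
  · conv_rhs => rw [hy, map_add, res_eq_zero (by simpa using hTy), zero_add, map_sum]
  · exact Finset.sum_const_zero

theorem exists_coord_div (g : LaurentSeries F) {d : LaurentSeries F} (hd : d ≠ 0) :
    ∃ b : Fin S.e → LaurentSeries F, g = ∑ j, S.hom (b j) * (var F ^ (j : ℕ) / d) := by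
  obtain ⟨a, ha⟩ := S.exists_coord (g * d)
  refine ⟨a, ?_⟩
  simp only [← mul_div_assoc, ← Finset.sum_div, ← ha]
  exact (mul_div_cancel_right₀ g hd).symm

/-- The power basis given by the variable. -/
theorem exists_powerBasis : ∃ pb : PowerBasis (LaurentSeries F) (Tgt S.hom), pb.gen = var F ∧ pb.dim = S.e := by
  let b : Module.Basis (Fin S.e) (LaurentSeries F) (Tgt S.hom) :=
    Module.Basis.mk (v := fun j : Fin S.e => (show Tgt S.hom from var F) ^ (j : ℕ))
      (Fintype.linearIndependent_iff.2 fun g hg => S.sum_eq_zero_iff g hg)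
      (fun y _ => by
        obtain ⟨b, hb⟩ := S.exists_coord y
        have hb' : (y : Tgt S.hom) = ∑ j, b j • (show Tgt S.hom from var F) ^ (j : ℕ) := hb
        rw [hb']
        exact Submodule.sum_mem _ fun j _ => Submodule.smul_mem _ (b j) (Submodule.subset_span ⟨j, rfl⟩))
  exact ⟨⟨(show Tgt S.hom from var F), S.e, b, fun i => Module.Basis.mk_apply _ _ i⟩, rfl, rfl⟩

/-- The residue formula for a totally ramified substitution. -/
theorem res_hom (a g : LaurentSeries F) :
    LocRes.res F (g * LocRes.D F (S.hom a)) = LocRes.res F (tr S.hom g * LocRes.D F a) := by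
  classical
  obtain ⟨c, h, hrel, hhu, hderiv, hkey⟩ := S.exists_key
  obtain ⟨pb, hgen, hdim⟩ := S.exists_powerBasis
  haveI : FiniteDimensional (LaurentSeries F) (Tgt S.hom) := pb.finite
  let s : Tgt S.hom := var F
  have hgen' : pb.gen = s := hgen
  set P : Polynomial (LaurentSeries F) := Polynomial.X ^ S.e -
    ∑ j ∈ Finset.range S.e, Polynomial.C (co (c j) : LaurentSeries F) * Polynomial.X ^ j with hP
  have hPdeg : (∑ j ∈ Finset.range S.e, Polynomial.C (co (c j) : LaurentSeries F) * Polynomial.X ^ j).degree <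
      (S.e : WithBot ℕ) :=
    (Polynomial.degree_sum_le _ _).trans_lt ((Finset.sup_lt_iff (WithBot.bot_lt_coe _)).2 fun j hj =>
      (Polynomial.degree_C_mul_X_pow_le _ _).trans_lt (by exact_mod_cast Finset.mem_range.1 hj))
  have hPmon : P.Monic := Polynomial.monic_X_pow_sub hPdeg
  have hPnd : P.natDegree = S.e := by
    refine Polynomial.natDegree_eq_of_degree_eq_some ?_
    rw [hP, Polynomial.degree_sub_eq_left_of_degree_lt (by rwa [Polynomial.degree_X_pow]), Polynomial.degree_X_pow]
  have hPev : ∀ Q : Polynomial (LaurentSeries F),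
      (show LaurentSeries F from Polynomial.aeval s Q) = Q.eval₂ S.hom (var F) := fun _ => rfl
  have hsub : ∀ j, S.hom (co (c j)) = co (S.sub (c j)) := fun j => S.hom_co _
  have hP0 : Polynomial.aeval s P = 0 := by
    refine (hPev P).trans ?_
    change _ = (0 : LaurentSeries F)
    rw [hP, Polynomial.eval₂_sub, Polynomial.eval₂_X_pow, Polynomial.eval₂_finsetSum]
    have h1 := congrArg (co : PowerSeries F →+* LaurentSeries F) hrel
    rw [map_zero, map_sub, map_pow, co_X, map_sum] at h1
    refine Eq.trans ?_ h1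
    congr 1
    refine Finset.sum_congr rfl fun j _ => ?_
    rw [Polynomial.eval₂_mul, Polynomial.eval₂_C, Polynomial.eval₂_X_pow, hsub, map_mul, map_pow, co_X]
  have hint : IsIntegral (LaurentSeries F) s := ⟨P, hPmon, hP0⟩
  set μ := minpoly (LaurentSeries F) s with hμ
  have hμP : μ = P := by
    refine (Polynomial.eq_of_monic_of_dvd_of_natDegree_le (minpoly.monic hint) hPmon (minpoly.dvd _ _ hP0) ?_).symm
    rw [hPnd, ← hgen', pb.natDegree_minpoly, hdim]
  set d := Polynomial.aeval s (Polynomial.derivative μ) with hd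
  have hhd : co h * (show LaurentSeries F from d) = LocRes.D F (S.hom (var F)) := by
    rw [S.hom_var, D_co, ← hderiv, map_mul, hd, hμP, hPev, hP, Polynomial.derivative_sub,
      Polynomial.derivative_X_pow, Polynomial.derivative_sum, Polynomial.eval₂_sub, Polynomial.eval₂_finsetSum,
      map_sub, map_mul, map_pow, co_X, map_natCast, map_sum, Polynomial.eval₂_mul, Polynomial.eval₂_X_pow]
    congr 2
    · simp
    refine Finset.sum_congr rfl fun j _ => ?_
    rw [Polynomial.derivative_C_mul_X_pow, Polynomial.eval₂_mul, Polynomial.eval₂_C, Polynomial.eval₂_X_pow,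
      map_mul, hsub, map_natCast, map_mul, map_mul, map_natCast, map_pow, co_X, mul_assoc]
  rw [D_map (ι := id) S.pos S.val_hom S.hom_C]
  by_cases hd0 : d = 0
  · have hD0 : LocRes.D F (S.hom (var F)) = 0 := by
      rw [← hhd, show (show LaurentSeries F from d) = 0 from hd0, mul_zero]
    have hns : ¬ Algebra.IsSeparable (LaurentSeries F) (Tgt S.hom) := fun hsep =>
      (Algebra.IsSeparable.isSeparable (LaurentSeries F) s).aeval_derivative_ne_zero (minpoly.aeval _ _) hd0
    have htr : tr S.hom g = 0 := by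
      change Algebra.trace (LaurentSeries F) (Tgt S.hom) (show Tgt S.hom from g) = 0
      rw [Algebra.trace_eq_zero_of_not_isSeparable hns, LinearMap.zero_apply]
    rw [htr, zero_mul, hD0, mul_zero, mul_zero]
  haveI : Algebra.IsSeparable (LaurentSeries F) (Tgt S.hom) := by
    have hsep : IsSeparable (LaurentSeries F) s := by
      change (minpoly (LaurentSeries F) s).Separable
      rw [Polynomial.separable_iff_derivative_ne_zero (minpoly.irreducible hint)]
      exact fun h0 => hd0 (by rw [hd, ← hμ] at *; rw [h0, map_zero])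
    have h1 : IntermediateField.adjoin (LaurentSeries F) ({s} : Set (Tgt S.hom)) = ⊤ := by
      refine IntermediateField.toSubalgebra_injective ?_
      rw [IntermediateField.top_toSubalgebra,
        IntermediateField.adjoin_simple_toSubalgebra_of_isAlgebraic hint.isAlgebraic, ← hgen']
      exact pb.adjoin_gen_eq_top
    have h2 := (IntermediateField.isSeparable_adjoin_simple_iff_isSeparable _ _).2 hsep
    rw [h1] at h2
    exact Algebra.IsSeparable.of_algHom _ _
      (IntermediateField.topEquiv (F := LaurentSeries F) (E := Tgt S.hom)).symm.toAlgHom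
  have hlast : S.e - 1 < pb.dim := by rw [hdim]; have := S.pos; omega
  have hlead : (minpolyDiv (LaurentSeries F) s).coeff (S.e - 1) = 1 := by
    have hn : (minpolyDiv (LaurentSeries F) s).natDegree + 1 = μ.natDegree := natDegree_minpolyDiv_succ hint
    rw [hμP, hPnd] at hn
    have := minpolyDiv_monic hint
    rw [Polynomial.Monic, Polynomial.leadingCoeff] at this
    rwa [show S.e - 1 = (minpolyDiv (LaurentSeries F) s).natDegree by omega]
  have heuler : ∀ j : Fin pb.dim, Algebra.trace (LaurentSeries F) (Tgt S.hom) (s ^ (j : ℕ) / d) =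
      if (j : ℕ) + 1 = S.e then 1 else 0 := by
    intro j
    have hdual := (Module.Basis.traceDual_eq_iff (b := pb.basis)).1 rfl ⟨S.e - 1, hlast⟩ j
    rw [Module.Basis.traceDual_powerBasis_eq, PowerBasis.coe_basis, Algebra.traceForm_apply] at hdual
    simp only [hgen', hlead, ← hμ, ← hd] at hdual
    rw [show s ^ (j : ℕ) / d = 1 / d * s ^ (j : ℕ) by rw [div_mul_eq_mul_div, one_mul], hdual]
    simp only [Fin.ext_iff]
    split_ifs <;> first | rfl | omega
  obtain ⟨b, hb⟩ := S.exists_coord_div g (show (show LaurentSeries F from d) ≠ 0 from hd0)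
  have htr : tr S.hom g = ∑ j, b j * (if (j : ℕ) + 1 = S.e then 1 else 0) := by
    rw [hb, map_sum]
    refine Finset.sum_congr rfl fun j _ => ?_
    rw [tr_map_mul]
    congr 1
    exact heuler (Fin.cast hdim.symm j)
  rw [htr, Finset.sum_mul, map_sum]
  conv_lhs => rw [hb, Finset.sum_mul, map_sum]
  refine Finset.sum_congr rfl fun j _ => ?_
  have hd0' : (show LaurentSeries F from d) ≠ 0 := hd0
  rw [show S.hom (b j) * (var F ^ (j : ℕ) / (show LaurentSeries F from d)) *
      (S.hom (LocRes.D F a) * LocRes.D F (S.hom (var F))) =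
    S.hom (b j * LocRes.D F a) * (var F ^ (j : ℕ) * co h) by rw [map_mul, ← hhd]; field_simp,
    S.res_basis hkey j.2]
  split_ifs with h1
  · rw [mul_one]
  · rw [mul_zero, zero_mul, map_zero]

end Subst

end Groth.Agent.H23Res
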