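import Mathlib
import Groth.Agent.H23Res.Ramified

/-!
The residue formula for a finite map of fields of Laurent series.
-/

set_option autoImplicit false
set_option linter.unusedSectionVars false
set_option linter.style.haveILetI false

namespace Groth.Agent.H23Res

open WithZero

variable {F F' : Type*} [Field F] [Field F'] [Algebra F F'] [FiniteDimensional F F']

local notation "θ₁" => mapHom (algebraMap F F')

/-- Coordinatewise decomposition of series. -/
noncomputable def coordSeries {n : ℕ} (b : Module.Basis (Fin n) F F') (i : Fin n) (g : LaurentSeries F') :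
    LaurentSeries F :=
  g.map (b.coord i)

theorem sum_coordSeries {n : ℕ} (b : Module.Basis (Fin n) F F') (g : LaurentSeries F') :
    ∑ i, θ₁ (coordSeries b i g) * HahnSeries.C (b i) = g := by
  refine HahnSeries.ext (funext fun m => ?_)
  simp only [HahnSeries.coeff_sum, mul_comm _ (HahnSeries.C (b _)), HahnSeries.C_mul_eq_smul,
    HahnSeries.coeff_smul, smul_eq_mul, mapHom_coeff]
  refine Eq.trans (Finset.sum_congr rfl fun i _ => ?_) (b.sum_repr (g.coeff m))
  rw [mul_comm, ← Algebra.smul_def]
  rfl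

/-- The coefficientwise basis. -/
theorem exists_basis_mapHom {n : ℕ} (b : Module.Basis (Fin n) F F') :
    ∃ B : Module.Basis (Fin n) (LaurentSeries F) (Tgt θ₁), (∀ i, B i = HahnSeries.C (b i)) ∧
      ∀ g i, B.repr g i = coordSeries b i g := by
  have hli : LinearIndependent (LaurentSeries F) (fun i => (show Tgt θ₁ from HahnSeries.C (b i))) := by
    rw [Fintype.linearIndependent_iff]
    intro a ha i
    have ha' : ∑ i, θ₁ (a i) * HahnSeries.C (b i) = 0 := ha
    refine HahnSeries.ext (funext fun m => ?_)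
    have h1 := congrArg (fun x => x.coeff m) ha'
    simp only [HahnSeries.coeff_sum, mul_comm _ (HahnSeries.C (b _)), HahnSeries.C_mul_eq_smul,
      HahnSeries.coeff_smul, smul_eq_mul, mapHom_coeff, HahnSeries.coeff_zero] at h1
    refine Fintype.linearIndependent_iff.1 b.linearIndependent (fun i => (a i).coeff m) ?_ i
    refine Eq.trans (Finset.sum_congr rfl fun j _ => ?_) h1
    rw [Algebra.smul_def, mul_comm]
  have hsum : ∀ g : Tgt θ₁, ∑ i, coordSeries b i g • (show Tgt θ₁ from HahnSeries.C (b i)) = g :=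
    fun g => sum_coordSeries b g
  have hsp : ⊤ ≤ Submodule.span (LaurentSeries F) (Set.range fun i => (show Tgt θ₁ from HahnSeries.C (b i))) :=
    fun g _ => by
      rw [← hsum g]
      exact Submodule.sum_mem _ fun i _ => Submodule.smul_mem _ _ (Submodule.subset_span ⟨i, rfl⟩)
  have hB : ∀ i, Module.Basis.mk hli hsp i = HahnSeries.C (b i) := fun i => Module.Basis.mk_apply _ _ i
  refine ⟨Module.Basis.mk hli hsp, hB, fun g i => ?_⟩
  have h1 : ∑ j, coordSeries b j g • Module.Basis.mk hli hsp j = g :=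
    (Finset.sum_congr rfl fun j _ => congrArg (coordSeries b j g • ·) (hB j)).trans (hsum g)
  conv_lhs => rw [← h1]
  exact congrFun (Module.Basis.repr_sum_self _ _) i

theorem finite_mapHom : Module.Finite (LaurentSeries F) (Tgt θ₁) := by
  obtain ⟨B, -, -⟩ := exists_basis_mapHom (Module.finBasis F F' : Module.Basis _ F F')
  exact Module.Finite.of_basis B

/-- The trace of coefficientwise extension is coefficientwise. -/
theorem tr_mapHom_coeff (g : LaurentSeries F') (m : ℤ) :
    (tr θ₁ g).coeff m = Algebra.trace F F' (g.coeff m) := by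
  classical
  set b : Module.Basis (Fin (Module.finrank F F')) F F' := Module.finBasis F F'
  obtain ⟨B, hB, hrepr⟩ := exists_basis_mapHom b
  change (Algebra.trace (LaurentSeries F) (Tgt θ₁) (show Tgt θ₁ from g)).coeff m = _
  rw [Algebra.trace_eq_matrix_trace B, Algebra.trace_eq_matrix_trace b, Matrix.trace, Matrix.trace,
    HahnSeries.coeff_sum]
  refine Finset.sum_congr rfl fun i _ => ?_
  rw [Matrix.diag_apply, Matrix.diag_apply, Algebra.leftMulMatrix_eq_repr_mul, Algebra.leftMulMatrix_eq_repr_mul,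
    hrepr, hB]
  change b.coord i ((g * HahnSeries.C (b i)).coeff m) = _
  rw [mul_comm, HahnSeries.C_mul_eq_smul, HahnSeries.coeff_smul, smul_eq_mul, mul_comm]
  rfl

theorem res_mapHom (a : LaurentSeries F) (g : LaurentSeries F') :
    Algebra.trace F F' (LocRes.res F' (g * LocRes.D F' (θ₁ a))) = LocRes.res F (tr θ₁ g * LocRes.D F a) := by
  rw [D_map (θ := θ₁) (e := 1) (ι := algebraMap F F') one_pos (fun x => by rw [val_mapHom, pow_one])
    (mapHom_C _), mapHom_var, D_var, mul_one, mul_comm g, mul_comm (tr θ₁ g), ← tr_map_mul]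
  exact (tr_mapHom_coeff (F := F) (F' := F') (θ₁ (LocRes.D F a) * g) (-1)).symm

/-- A map of fields of Laurent series is a substitution after a coefficient map. -/
theorem exists_subst {θ : LaurentSeries F →+* LaurentSeries F'} {e : ℕ} (he : 0 < e)
    (hθ : ∀ a, Valued.v (θ a) = Valued.v a ^ e)
    (hC : ∀ c, θ (HahnSeries.C c) = HahnSeries.C (algebraMap F F' c)) :
    ∃ S : Subst F', S.e = e ∧ θ = S.hom.comp θ₁ := by
  have hne : θ (var F) ≠ 0 := (map_ne_zero θ).2 var_ne_zero
  obtain ⟨n, u, hu, heq⟩ := exists_decomp hne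
  have hn : n = e := by
    have h := congrArg Valued.v heq
    rw [hθ, map_mul, val_var_zpow, val_co_unit hu, mul_one, val_var, ← exp_nsmul, exp_inj] at h
    simp at h
    omega
  let S : Subst F' := ⟨PowerSeries.X ^ e * u, e, u, he, hu, rfl⟩
  refine ⟨S, rfl, hom_ext he hθ (fun a => ?_) (fun c => ?_) ?_⟩
  · rw [RingHom.comp_apply, S.val_hom, val_mapHom]
  · rw [RingHom.comp_apply, mapHom_C, S.hom_C, hC]
  · rw [RingHom.comp_apply, mapHom_var, S.hom_var, heq, hn, map_mul, map_pow, co_X, zpow_natCast]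

/-- The residue formula. -/
theorem trace_res {θ : LaurentSeries F →+* LaurentSeries F'} {e : ℕ} (he : 0 < e)
    (hθ : ∀ a, Valued.v (θ a) = Valued.v a ^ e)
    (hC : ∀ c, θ (HahnSeries.C c) = HahnSeries.C (algebraMap F F' c)) (a : LaurentSeries F)
    (g : LaurentSeries F') :
    Algebra.trace F F' (LocRes.res F' (g * LocRes.D F' (θ a))) = LocRes.res F (tr θ g * LocRes.D F a) := by
  obtain ⟨S, -, rfl⟩ := exists_subst he hθ hC
  obtain ⟨pb, -, -⟩ := S.exists_powerBasis
  haveI := pb.finite
  haveI := finite_mapHom (F := F) (F' := F')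
  letI : Algebra (Tgt θ₁) (Tgt (S.hom.comp θ₁)) := RingHom.toAlgebra (S := Tgt (S.hom.comp θ₁)) S.hom
  haveI : IsScalarTower (LaurentSeries F) (Tgt θ₁) (Tgt (S.hom.comp θ₁)) :=
    IsScalarTower.of_algebraMap_eq fun _ => rfl
  haveI : Module.Finite (Tgt θ₁) (Tgt (S.hom.comp θ₁)) := pb.finite
  have htr : tr (S.hom.comp θ₁) g = tr θ₁ (tr S.hom g) :=
    (Algebra.trace_trace (R := LaurentSeries F) (S := Tgt θ₁) (T := Tgt (S.hom.comp θ₁))
      (show Tgt (S.hom.comp θ₁) from g)).symm
  rw [htr, ← res_mapHom, RingHom.comp_apply, S.res_hom]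

end Groth.Agent.H23Res
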