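import Mathlib
import Groth.Agent.H23Res.Local

/-!
The map of Laurent series fields between expansions at places one over the other.
-/

set_option autoImplicit false
set_option linter.unusedSectionVars false
set_option linter.style.haveILetI false

namespace Groth.Agent.H23Res

open WithZero

variable {F : Type*} [Field F]

local notation "co" => HahnSeries.ofPowerSeries ℤ F

theorem algebraMap_laurent {k : Type*} [CommRing k] [Algebra k F] (c : k) :
    algebraMap k (LaurentSeries F) c = HahnSeries.C (algebraMap k F c) := by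
  rw [HahnSeries.algebraMap_apply', PowerSeries.algebraMap_apply, HahnSeries.ofPowerSeries_C]

theorem coeff_zero_mul {x y : LaurentSeries F} (hx : Valued.v x ≤ 1) (hy : Valued.v y ≤ 1) :
    (x * y).coeff 0 = x.coeff 0 * y.coeff 0 := by
  obtain ⟨p, rfl⟩ := (LaurentSeries.val_le_one_iff_eq_coe F x).1 hx
  obtain ⟨q, rfl⟩ := (LaurentSeries.val_le_one_iff_eq_coe F y).1 hy
  rw [← map_mul, show (0 : ℤ) = ((0 : ℕ) : ℤ) from rfl, LaurentSeries.coeff_coe_powerSeries,
    LaurentSeries.coeff_coe_powerSeries, LaurentSeries.coeff_coe_powerSeries,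
    PowerSeries.coeff_zero_eq_constantCoeff_apply, map_mul]
  simp

theorem val_eq_one_of_coeff_zero {x : LaurentSeries F} (hx : Valued.v x ≤ 1) (h : x.coeff 0 ≠ 0) :
    Valued.v x = 1 := by
  refine le_antisymm hx (not_lt.1 fun hlt => h ?_)
  refine (val_le_iff 1).1 ?_ 0 (by norm_num)
  rcases eq_or_ne (Valued.v x) 0 with h0 | h0
  · rw [h0]; exact zero_le
  · rw [← exp_log h0, ← exp_zero, exp_lt_exp] at hlt
    rw [← exp_log h0, exp_le_exp]; omega

theorem val_le_of_coeff_zero {x : LaurentSeries F} (hx : Valued.v x ≤ 1) (h : x.coeff 0 = 0) :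
    Valued.v x ≤ exp (-(1 : ℤ)) := by
  have h0 := (val_le_iff 0).1 (by simpa using hx)
  refine (val_le_iff 1).2 fun n hn => ?_
  rcases lt_or_eq_of_le (Int.lt_add_one_iff.1 (show n < (0 : ℤ) + 1 by omega)) with h1 | h1
  · exact h0 n h1
  · rw [h1]; exact h

/-- A Cauchy sequence of integral series has a limit. -/
theorem exists_lim (s : ℕ → LaurentSeries F) (hs : ∀ N, Valued.v (s N) ≤ 1)
    (hc : ∀ N M, N ≤ M → Valued.v (s M - s N) ≤ exp (-(N : ℤ))) :
    ∃ l : LaurentSeries F, ∀ N : ℕ, Valued.v (l - s N) ≤ exp (-(N : ℤ)) := by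
  refine ⟨co (PowerSeries.mk fun m => (s (m + 1)).coeff m), fun N => (val_le_iff _).2 fun n hn => ?_⟩
  rw [HahnSeries.coeff_sub, sub_eq_zero]
  rcases lt_or_ge n 0 with h | h
  · rw [(val_le_iff (f := s N) 0).1 (by simpa using hs N) n h]
    exact (val_le_iff 0).1 (by rw [neg_zero, exp_zero]; exact val_co_le _) n h
  · obtain ⟨m, rfl⟩ := Int.eq_ofNat_of_zero_le h
    rw [LaurentSeries.coeff_coe_powerSeries, PowerSeries.coeff_mk]
    have h1 := (val_le_iff _).1 (hc (m + 1) N (by omega)) m (by push_cast; omega)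
    rw [HahnSeries.coeff_sub, sub_eq_zero] at h1
    exact h1.symm

theorem val_mul_congr {x x' y y' : LaurentSeries F} {ε : WithZero (Multiplicative ℤ)} (hx : Valued.v x ≤ 1)
    (hy' : Valued.v y' ≤ 1) (h1 : Valued.v (x - x') ≤ ε) (h2 : Valued.v (y - y') ≤ ε) :
    Valued.v (x * y - x' * y') ≤ ε := by
  rw [show x * y - x' * y' = x * (y - y') + (x - x') * y' by ring]
  refine (Valued.v.map_add _ _).trans (max_le ?_ ?_) <;> rw [map_mul]
  · exact (mul_le_of_le_one_left zero_le hx).trans h2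
  · exact (mul_le_of_le_one_right zero_le hy').trans h1

theorem val_pow_congr {x x' : LaurentSeries F} {ε : WithZero (Multiplicative ℤ)} (hx : Valued.v x ≤ 1)
    (hx' : Valued.v x' ≤ 1) (h : Valued.v (x - x') ≤ ε) (n : ℕ) : Valued.v (x ^ n - x' ^ n) ≤ ε := by
  induction n with
  | zero => simp
  | succ n ih =>
    rw [pow_succ, pow_succ]
    exact val_mul_congr (by rw [map_pow]; exact pow_le_one₀ zero_le hx) hx' ih h

variable {k K : Type*} [Field k] [Field K] [Algebra k K] [Algebra k F]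
  {v : Valuation K (WithZero (Multiplicative ℤ))} {φ : K →ₐ[k] LaurentSeries F} (hφ : LocRes.IsExpansionAt v φ)
include hφ

theorem exists_approx_nat (f : LaurentSeries F) (hf : Valued.v f ≤ 1) (N : ℕ) :
    ∃ a : K, v a ≤ 1 ∧ Valued.v (φ a - f) ≤ exp (-(N : ℤ)) := by
  induction N with
  | zero => exact ⟨0, by simp, by simpa using hf⟩
  | succ N ih =>
    obtain ⟨a, ha, hr⟩ := ih
    obtain ⟨t, ht⟩ := hφ.2.2
    have ht0 : φ t ≠ 0 := fun h => exp_ne_zero (by rw [← ht, ← hφ.1, h, map_zero])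
    have hvt : Valued.v (φ t ^ N) = exp (-(N : ℤ)) := by rw [map_pow, hφ.1, ht, ← exp_nsmul]; simp
    set r := (φ a - f) / φ t ^ N with hr'
    have hr1 : Valued.v r ≤ 1 := by
      rw [hr', map_div₀, hvt, div_le_one₀ exp_pos]; exact hr
    obtain ⟨a', ha', hc⟩ := hφ.2.1 (r.coeff 0)
    have hd : Valued.v (r - φ a') ≤ exp (-(1 : ℤ)) := by
      refine val_le_of_coeff_zero ((Valued.v.map_sub _ _).trans (max_le hr1 ((hφ.1 a').trans_le ha'))) ?_
      rw [HahnSeries.coeff_sub, hc, sub_self]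
    refine ⟨a - a' * t ^ N, (v.map_sub _ _).trans (max_le ha ?_), ?_⟩
    · rw [map_mul, map_pow, ht]
      exact mul_le_one' ha' (pow_le_one₀ zero_le (by rw [← exp_zero, exp_le_exp]; norm_num))
    · rw [map_sub φ, map_mul φ, map_pow φ, show φ a - φ a' * φ t ^ N - f = (r - φ a') * φ t ^ N by
        rw [hr', sub_mul, div_mul_cancel₀ _ (pow_ne_zero _ ht0)]; ring, map_mul, hvt]
      refine (mul_le_mul' hd le_rfl).trans_eq ?_
      rw [← exp_add]; congr 1; push_cast; ring

/-- The expansion has dense image. -/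
theorem exists_approx (f : LaurentSeries F) (N : ℤ) : ∃ a : K, Valued.v (φ a - f) ≤ exp (-N) := by
  obtain ⟨t, ht⟩ := hφ.2.2
  obtain ⟨M, hM⟩ : ∃ M : ℕ, Valued.v f ≤ exp (M : ℤ) := by
    rcases eq_or_ne (Valued.v f) 0 with h | h
    · exact ⟨0, by rw [h]; exact zero_le⟩
    · exact ⟨(log (Valued.v f)).toNat, by conv_lhs => rw [← exp_log h]
                                          exact exp_le_exp.2 (Int.self_le_toNat _)⟩
  have ht0 : t ≠ 0 := fun h => exp_ne_zero (by rw [← ht, h, map_zero])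
  have hvt : Valued.v (φ t ^ M) = exp (-(M : ℤ)) := by rw [map_pow, hφ.1, ht, ← exp_nsmul]; simp
  obtain ⟨a, -, ha⟩ := exists_approx_nat hφ (f * φ t ^ M) (by
    rw [map_mul, hvt]
    refine (mul_le_mul' hM le_rfl).trans_eq ?_
    rw [← exp_add, add_neg_cancel, exp_zero]) (N + M).toNat
  refine ⟨a / t ^ M, ?_⟩
  have hφt : φ t ^ M ≠ 0 := pow_ne_zero _ ((map_ne_zero φ).2 ht0)
  rw [map_div₀, map_pow, show φ a / φ t ^ M - f = (φ a - f * φ t ^ M) / φ t ^ M by
    rw [sub_div, mul_div_cancel_right₀ _ hφt], map_div₀, hvt, div_le_iff₀ exp_pos, ← exp_add]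
  exact ha.trans (exp_le_exp.2 (by omega))

variable {F' K' : Type*} [Field F'] [Algebra k F'] [Field K'] [Algebra k K'] [Algebra K K'] [IsScalarTower k K K']
  {w : Valuation K' (WithZero (Multiplicative ℤ))} {ψ : K' →ₐ[k] LaurentSeries F'}
  (hψ : LocRes.IsExpansionAt w ψ) {e : ℕ} (he : 0 < e) (hvw : ∀ a, w (algebraMap K K' a) = v a ^ e)

include hψ he hvw

theorem val_comp (a : K) : Valued.v (ψ (algebraMap K K' a)) = Valued.v (φ a) ^ e := by
  rw [hψ.1, hvw, hφ.1]

/-- The map of coefficient fields. -/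
theorem exists_coeff_hom : ∃ ι : F →ₐ[k] F', ∀ a, v a ≤ 1 → ι ((φ a).coeff 0) = (ψ (algebraMap K K' a)).coeff 0 := by
  choose s hs1 hs using hφ.2.1
  have hle : ∀ a, v a ≤ 1 → Valued.v (φ a) ≤ 1 ∧ Valued.v (ψ (algebraMap K K' a)) ≤ 1 := fun a ha =>
    ⟨(hφ.1 a).trans_le ha, by rw [hψ.1, hvw]; exact pow_le_one₀ zero_le ha⟩
  have key : ∀ a a', v a ≤ 1 → v a' ≤ 1 → (φ a).coeff 0 = (φ a').coeff 0 →
      (ψ (algebraMap K K' a)).coeff 0 = (ψ (algebraMap K K' a')).coeff 0 := by
    intro a a' ha ha' h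
    have h1 : Valued.v (φ (a - a')) ≤ exp (-(1 : ℤ)) := by
      refine val_le_of_coeff_zero ((hφ.1 _).trans_le ((v.map_sub _ _).trans (max_le ha ha'))) ?_
      rw [map_sub, HahnSeries.coeff_sub, h, sub_self]
    have h2 : Valued.v (ψ (algebraMap K K' (a - a'))) ≤ exp (-(1 : ℤ)) := by
      rw [val_comp hφ hψ he hvw]
      refine (pow_le_pow_left₀ zero_le h1 e).trans ?_
      rw [← exp_nsmul, exp_le_exp]; simp; omega
    have h3 := (val_le_iff 1).1 h2 0 (by norm_num)
    rw [map_sub, map_sub, HahnSeries.coeff_sub, sub_eq_zero] at h3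
    exact h3
  have hC : ∀ c : k, (φ (algebraMap k K c)).coeff 0 = algebraMap k F c ∧
      (ψ (algebraMap K K' (algebraMap k K c))).coeff 0 = algebraMap k F' c := by
    intro c
    rw [← IsScalarTower.algebraMap_apply]
    simp [algebraMap_laurent]
  refine ⟨{ toFun := fun c => (ψ (algebraMap K K' (s c))).coeff 0
            map_one' := ?_, map_mul' := ?_, map_zero' := ?_, map_add' := ?_, commutes' := ?_ },
    fun a ha => key _ a (hs1 _) ha (hs _)⟩
  · rw [key _ 1 (hs1 _) (by rw [map_one]) (by rw [hs, map_one]; simp)]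
    simp
  · intro a b
    rw [key _ (s a * s b) (hs1 _) (by rw [map_mul]; exact mul_le_one' (hs1 a) (hs1 b))
      (by rw [hs, map_mul, coeff_zero_mul (hle _ (hs1 a)).1 (hle _ (hs1 b)).1, hs, hs]), map_mul, map_mul,
      coeff_zero_mul (hle _ (hs1 a)).2 (hle _ (hs1 b)).2]
  · rw [key _ 0 (hs1 _) (by rw [map_zero]; exact zero_le) (by rw [hs, map_zero]; simp)]
    simp
  · intro a b
    show (ψ (algebraMap K K' (s (a + b)))).coeff 0 = _
    rw [key _ (s a + s b) (hs1 _) ((v.map_add _ _).trans (max_le (hs1 a) (hs1 b)))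
      (by rw [hs, map_add, HahnSeries.coeff_add, hs, hs]), map_add, map_add, HahnSeries.coeff_add]
  · intro c
    have hkc : v (algebraMap k K c) ≤ 1 := by
      rw [← hφ.1, LocRes.map_algebraMap]; exact val_C_le _
    show (ψ (algebraMap K K' (s (algebraMap k F c)))).coeff 0 = _
    rw [key _ _ (hs1 _) hkc (by rw [hs, (hC c).1]), (hC c).2]

/-- The map of completions. -/
theorem exists_embed [Algebra.IsSeparable k F] [FiniteDimensional k F] :
    ∃ (θ : LaurentSeries F →+* LaurentSeries F') (ι : F →ₐ[k] F'),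
      (∀ a, Valued.v (θ a) = Valued.v a ^ e) ∧ (∀ c, θ (HahnSeries.C c) = HahnSeries.C (ι c)) ∧
      ∀ a, θ (φ a) = ψ (algebraMap K K' a) := by
  classical
  obtain ⟨ι, hι⟩ := exists_coeff_hom hφ hψ he hvw
  have hψle : ∀ {a : K} {N : ℕ}, Valued.v (φ a) ≤ exp (-(N : ℤ)) →
      Valued.v (ψ (algebraMap K K' a)) ≤ exp (-(N : ℤ)) := fun {a N} h => by
    rw [val_comp hφ hψ he hvw]
    refine (pow_le_pow_left₀ zero_le h e).trans ?_
    rw [← exp_nsmul, exp_le_exp, nsmul_eq_mul]
    have : (N : ℤ) ≤ e * (N : ℤ) := le_mul_of_one_le_left (Int.natCast_nonneg N) (by omega)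
    rw [mul_neg]; omega
  have hψ1 : ∀ {a : K}, v a ≤ 1 → Valued.v (ψ (algebraMap K K' a)) ≤ 1 := fun {a} ha => by
    rw [hψ.1, hvw]; exact pow_le_one₀ zero_le ha
  -- Hensel's argument for constants
  have hconst : ∀ (c : F) (b : K) (N : ℕ), 0 < N → v b ≤ 1 → Valued.v (φ b - HahnSeries.C c) ≤ exp (-(N : ℤ)) →
      Valued.v (ψ (algebraMap K K' b) - HahnSeries.C (ι c)) ≤ exp (-(N : ℤ)) := by
    intro c b N hN hb h
    set p := minpoly k c with hp
    have hpb : Valued.v (φ (Polynomial.aeval b p)) ≤ exp (-(N : ℤ)) := by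
      have h0 : Polynomial.aeval (HahnSeries.C c : LaurentSeries F) p = 0 := by
        have hm : algebraMap k (LaurentSeries F) = (HahnSeries.C).comp (algebraMap k F) :=
          RingHom.ext algebraMap_laurent
        rw [Polynomial.aeval_def, hm, ← Polynomial.hom_eval₂, ← Polynomial.aeval_def, minpoly.aeval, map_zero]
      rw [← Polynomial.aeval_algHom_apply, ← sub_zero (Polynomial.aeval (φ b) p), ← h0,
        Polynomial.aeval_eq_sum_range, Polynomial.aeval_eq_sum_range, ← Finset.sum_sub_distrib]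
      refine Valued.v.map_sum_le fun i _ => ?_
      rw [Algebra.smul_def, Algebra.smul_def, ← mul_sub, map_mul, algebraMap_laurent]
      refine (mul_le_of_le_one_left zero_le ?_).trans (val_pow_congr ((hφ.1 b).trans_le hb) (val_C_le c) h i)
      exact val_C_le _
    have hroot : (p.map (algebraMap k F')).IsRoot (ι c) := by
      rw [Polynomial.IsRoot, Polynomial.eval_map, ← Polynomial.aeval_def, Polynomial.aeval_algHom_apply,
        minpoly.aeval, map_zero]
    obtain ⟨g, hg⟩ := Polynomial.dvd_iff_isRoot.2 hroot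
    have hg0 : g.eval (ι c) ≠ 0 := by
      intro h0
      have hsep : (p.map (algebraMap k F')).Separable :=
        Polynomial.Separable.map (show (minpoly k c).Separable from Algebra.IsSeparable.isSeparable k c)
      have h1 := hsep.eval₂_derivative_ne_zero (RingHom.id F') (x := ι c) hroot
      refine h1 ?_
      rw [Polynomial.eval₂_id, hg, Polynomial.derivative_mul]
      simp [h0]
    set z := ψ (algebraMap K K' b) with hz
    have hz1 : Valued.v z ≤ 1 := hψ1 hb
    have hz0 : z.coeff 0 = ι c := by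
      rw [hz, ← hι b hb]
      congr 1
      have h1 := (val_le_iff _).1 h 0 (by exact_mod_cast hN)
      rw [HahnSeries.coeff_sub, sub_eq_zero] at h1
      rw [h1]; simp
    have hval : ∀ q : Polynomial F', Valued.v (q.eval₂ HahnSeries.C z) ≤ 1 ∧
        (q.eval₂ HahnSeries.C z).coeff 0 = q.eval (z.coeff 0) := by
      intro q
      induction q using Polynomial.induction_on with
      | C a =>
        rw [Polynomial.eval₂_C, Polynomial.eval_C]
        exact ⟨val_C_le a, by simp⟩
      | add p q hp hq =>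
        rw [Polynomial.eval₂_add, Polynomial.eval_add, HahnSeries.coeff_add, hp.2, hq.2]
        exact ⟨(Valued.v.map_add _ _).trans (max_le hp.1 hq.1), rfl⟩
      | monomial n a hn =>
        rw [pow_succ, ← mul_assoc, Polynomial.eval₂_mul, Polynomial.eval_mul, Polynomial.eval₂_X, Polynomial.eval_X,
          coeff_zero_mul hn.1 hz1, hn.2, map_mul]
        exact ⟨mul_le_one' hn.1 hz1, rfl⟩
    have hgz : Valued.v (g.eval₂ HahnSeries.C z) = 1 :=
      val_eq_one_of_coeff_zero (hval g).1 (by rw [(hval g).2, hz0]; exact hg0)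
    have h2 : ψ (algebraMap K K' (Polynomial.aeval b p)) =
        (z - HahnSeries.C (ι c)) * g.eval₂ HahnSeries.C z := by
      rw [← Polynomial.aeval_algebraMap_apply, ← Polynomial.aeval_algHom_apply, Polynomial.aeval_def,
        show algebraMap k (LaurentSeries F') = (HahnSeries.C).comp (algebraMap k F') from
          RingHom.ext algebraMap_laurent,
        ← Polynomial.eval₂_map, hg, Polynomial.eval₂_mul, Polynomial.eval₂_sub, Polynomial.eval₂_X,
        Polynomial.eval₂_C]
    have h3 := hψle hpb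
    rwa [h2, map_mul, hgz, mul_one] at h3
  -- the image of the variable
  choose a ha1 ha using fun N : ℕ => exists_approx_nat hφ (var F) (by rw [val_var, ← exp_zero, exp_le_exp]; norm_num) (N + 2)
  obtain ⟨τ, hτ⟩ := exists_lim (fun N => ψ (algebraMap K K' (a N))) (fun N => hψ1 (ha1 N)) (fun N M hNM => by
    rw [← map_sub, ← map_sub]
    refine hψle ?_
    rw [map_sub, show φ (a M) - φ (a N) = (φ (a M) - var F) - (φ (a N) - var F) by ring]
    exact (Valued.v.map_sub _ _).trans (max_le ((ha M).trans (exp_le_exp.2 (by push_cast; omega)))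
      ((ha N).trans (exp_le_exp.2 (by push_cast; omega)))))
  have hva : ∀ N, Valued.v (φ (a N)) = exp (-1) := fun N => by
    rw [show φ (a N) = var F + (φ (a N) - var F) by ring, Valued.v.map_add_eq_of_lt_left, val_var]
    rw [val_var]
    exact (ha N).trans_lt (exp_lt_exp.2 (by push_cast; omega))
  have hτv : Valued.v τ = exp (-(e : ℤ)) := by
    have h1 : Valued.v (ψ (algebraMap K K' (a (e + 1)))) = exp (-(e : ℤ)) := by
      rw [val_comp hφ hψ he hvw, hva, ← exp_nsmul]; simp
    rw [show τ = ψ (algebraMap K K' (a (e + 1))) + (τ - ψ (algebraMap K K' (a (e + 1)))) by ring,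
      Valued.v.map_add_eq_of_lt_left, h1]
    rw [h1]
    exact (hτ (e + 1)).trans_lt (exp_lt_exp.2 (by push_cast; omega))
  have hτ0 : τ ≠ 0 := fun h => exp_ne_zero (hτv.symm.trans (by rw [h, map_zero]))
  obtain ⟨n, u, hu, heq⟩ := exists_decomp hτ0
  have hn : n = e := by
    have h := congrArg Valued.v heq
    rw [hτv, map_mul, val_var_zpow, val_co_unit hu, mul_one, exp_inj] at h
    omega
  let S : Subst F' := ⟨PowerSeries.X ^ e * u, e, u, he, hu, rfl⟩
  set θ := S.hom.comp (mapHom (ι : F →+* F')) with hθdef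
  have hθ : ∀ x, Valued.v (θ x) = Valued.v x ^ e := fun x => by
    rw [hθdef, RingHom.comp_apply, S.val_hom, val_mapHom]
  have hθC : ∀ c, θ (HahnSeries.C c) = HahnSeries.C (ι c) := fun c => by
    rw [hθdef, RingHom.comp_apply, mapHom_C, S.hom_C]; rfl
  have hθX : θ (var F) = τ := by
    rw [hθdef, RingHom.comp_apply, mapHom_var, S.hom_var, heq, hn, map_mul, map_pow, co_X, zpow_natCast]
  refine ⟨θ, ι, hθ, hθC, ?_⟩
  have hint : ∀ x : K, v x ≤ 1 → θ (φ x) = ψ (algebraMap K K' x) := by
    intro x hx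
    refine eq_of_val_le fun N => ?_
    set M := N + 1 with hM
    obtain ⟨s, hs, hsx⟩ := exists_trunc (φ x) M
    choose b hb1 hb using fun c : F => exists_approx_nat hφ (HahnSeries.C c) (val_C_le c) M
    have hτ1 : Valued.v τ ≤ 1 := by rw [hτv, ← exp_zero, exp_le_exp]; omega
    have hvar1 : Valued.v (var F) ≤ 1 := by rw [val_var, ← exp_zero, exp_le_exp]; norm_num
    set z : K := ∑ i ∈ s, b ((φ x).coeff i) * a M ^ i.toNat with hzdef
    have hpos : ∀ i ∈ s, (φ x).coeff i ≠ 0 → ((i.toNat : ℕ) : ℤ) = i := fun i _ hi => by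
      refine Int.toNat_of_nonneg (not_lt.1 fun h => hi ?_)
      exact (val_le_iff 0).1 (by rw [neg_zero, exp_zero]; exact (hφ.1 x).trans_le hx) i h
    have hφz : Valued.v (φ x - φ z) ≤ exp (-(M : ℤ)) := by
      rw [show φ x - φ z = (φ x - ∑ i ∈ s, HahnSeries.C ((φ x).coeff i) * var F ^ i) +
        ((∑ i ∈ s, HahnSeries.C ((φ x).coeff i) * var F ^ i) - φ z) by ring]
      refine (Valued.v.map_add _ _).trans (max_le hsx ?_)
      rw [hzdef, map_sum, ← Finset.sum_sub_distrib]
      refine Valued.v.map_sum_le fun i hi => ?_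
      rcases eq_or_ne ((φ x).coeff i) 0 with h0 | h0
      · rw [h0, map_zero, zero_mul, zero_sub, Valuation.map_neg, map_mul, map_mul]
        refine (mul_le_of_le_one_right zero_le ?_).trans ?_
        · rw [map_pow, map_pow]; exact pow_le_one₀ zero_le ((hφ.1 _).trans_le (ha1 M))
        · have := hb 0; rwa [map_zero, sub_zero] at this
      rw [← hpos i hi h0, zpow_natCast, map_mul, map_pow, Int.toNat_natCast]
      refine val_mul_congr (val_C_le _) (by rw [map_pow, hva]; exact pow_le_one₀ zero_le (by rw [← exp_zero, exp_le_exp]; norm_num))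
        ?_ (val_pow_congr hvar1 ((hφ.1 _).trans_le (ha1 M)) ?_ _)
      · rw [Valuation.map_sub_swap]; exact hb _
      · rw [Valuation.map_sub_swap]; exact (ha M).trans (exp_le_exp.2 (by push_cast; omega))
    have h1 : Valued.v (θ (φ x) - θ (φ z)) ≤ exp (-(N : ℤ)) := by
      rw [← map_sub]
      refine (val_map_le hθ hφz).trans (exp_le_exp.2 ?_)
      have : (M : ℤ) ≤ e * (M : ℤ) := le_mul_of_one_le_left (Int.natCast_nonneg M) (by omega)
      push_cast [hM] at this ⊢
      omega
    have h2 : Valued.v (ψ (algebraMap K K' z) - ψ (algebraMap K K' x)) ≤ exp (-(N : ℤ)) := by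
      rw [← map_sub, ← map_sub]
      refine (hψle (N := M) ?_).trans (exp_le_exp.2 (by push_cast [hM]; omega))
      rw [map_sub, Valuation.map_sub_swap]; exact hφz
    have h3 : Valued.v (θ (φ z) - ψ (algebraMap K K' z)) ≤ exp (-(N : ℤ)) := by
      have hb' : ∀ c, Valued.v (θ (φ (b c)) - ψ (algebraMap K K' (b c))) ≤ exp (-(N : ℤ)) := fun c => by
        rw [show θ (φ (b c)) - ψ (algebraMap K K' (b c)) = θ (φ (b c) - HahnSeries.C c) -
          (ψ (algebraMap K K' (b c)) - HahnSeries.C (ι c)) by rw [map_sub, hθC]; ring]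
        refine (Valued.v.map_sub _ _).trans (max_le ((val_map_le hθ (hb c)).trans (exp_le_exp.2 ?_))
          ((hconst c (b c) M (by omega) (hb1 c) (hb c)).trans (exp_le_exp.2 (by push_cast [hM]; omega))))
        have : (M : ℤ) ≤ e * (M : ℤ) := le_mul_of_one_le_left (Int.natCast_nonneg M) (by omega)
        push_cast [hM] at this ⊢
        omega
      have ha' : Valued.v (θ (φ (a M)) - ψ (algebraMap K K' (a M))) ≤ exp (-(N : ℤ)) := by
        rw [show θ (φ (a M)) - ψ (algebraMap K K' (a M)) = θ (φ (a M) - var F) +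
          (τ - ψ (algebraMap K K' (a M))) by rw [map_sub, hθX]; ring]
        refine (Valued.v.map_add _ _).trans (max_le ((val_map_le hθ (ha M)).trans (exp_le_exp.2 ?_))
          ((hτ M).trans (exp_le_exp.2 (by push_cast [hM]; omega))))
        have : ((M + 2 : ℕ) : ℤ) ≤ e * ((M + 2 : ℕ) : ℤ) := le_mul_of_one_le_left (Int.natCast_nonneg _) (by omega)
        push_cast [hM] at this ⊢
        omega
      have hθ1 : ∀ {y : K}, v y ≤ 1 → Valued.v (θ (φ y)) ≤ 1 := fun {y} hy => by
        rw [hθ, hφ.1]; exact pow_le_one₀ zero_le hy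
      rw [hzdef, map_sum, map_sum, map_sum, map_sum, ← Finset.sum_sub_distrib]
      refine Valued.v.map_sum_le fun i _ => ?_
      simp only [map_mul, map_pow]
      exact val_mul_congr (hθ1 (hb1 _)) (by rw [map_pow]; exact pow_le_one₀ zero_le (hψ1 (ha1 M))) (hb' _)
        (val_pow_congr (hθ1 (ha1 M)) (hψ1 (ha1 M)) ha' _)
    rw [show θ (φ x) - ψ (algebraMap K K' x) = (θ (φ x) - θ (φ z)) + (θ (φ z) - ψ (algebraMap K K' z)) +
      (ψ (algebraMap K K' z) - ψ (algebraMap K K' x)) by ring]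
    exact (Valued.v.map_add _ _).trans (max_le ((Valued.v.map_add _ _).trans (max_le h1 h3)) h2)
  intro x
  rcases le_total (v x) 1 with hx | hx
  · exact hint x hx
  · have h := hint x⁻¹ (by rw [map_inv₀]; exact inv_le_one_of_one_le₀ hx)
    simpa [map_inv₀] using h

end Groth.Agent.H23Res
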