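import Mathlib
import Groth.Prelude.Def_W4bk4goldsch23FF
import Groth.Agent.H23Geom.Unram
import Groth.Agent.H23Res.Embed

/-!
The degree of a place read through an expansion.
-/

set_option autoImplicit false
set_option linter.unusedSectionVars false
set_option linter.style.haveILetI false

namespace Groth.Agent.H23Res

open WithZero

variable {k K F : Type*} [Field k] [Field K] [Algebra k K] [Field F] [Algebra k F] {P : FunFld.Place k K}
  {φ : K →ₐ[k] LaurentSeries F}

/-- The residue field is the coefficient field. -/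
theorem exists_residueEquiv (hφ : LocRes.IsExpansionAt P.1 φ) : Nonempty (IsLocalRing.ResidueField P.O ≃ₐ[k] F) := by
  have h1 : ∀ a : P.O, Valued.v (φ (a : K)) ≤ 1 := fun a => (hφ.1 _).trans_le a.2
  let g : P.O →+* F :=
    { toFun := fun a => (φ (a : K)).coeff 0
      map_one' := by simp
      map_mul' := fun a b => by rw [P.O.toSubring.coe_mul, map_mul, coeff_zero_mul (h1 a) (h1 b)]
      map_zero' := by simp
      map_add' := fun a b => by rw [P.O.toSubring.coe_add, map_add, HahnSeries.coeff_add] }
  haveI : IsLocalHom g := ⟨fun a ha => by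
    rw [Groth.Agent.H23Geom.isUnit_O_iff, ← hφ.1]
    exact val_eq_one_of_coeff_zero (h1 a) ha.ne_zero⟩
  have hg : ∀ c : k, g (algebraMap k P.O c) = algebraMap k F c := fun c => by
    change (φ (algebraMap k K c)).coeff 0 = _
    rw [LocRes.map_algebraMap]; simp
  let ρ : IsLocalRing.ResidueField P.O →ₐ[k] F :=
    { toRingHom := IsLocalRing.ResidueField.lift g
      commutes' := fun c => hg c }
  have hρ : Function.Bijective ρ := ⟨ρ.toRingHom.injective, fun a => by
    obtain ⟨f, hf, ha⟩ := hφ.2.1 a
    exact ⟨IsLocalRing.residue P.O ⟨f, hf⟩, ha⟩⟩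
  exact ⟨AlgEquiv.ofBijective ρ hρ⟩

theorem deg_eq_finrank (hφ : LocRes.IsExpansionAt P.1 φ) : P.deg = Module.finrank k F := by
  obtain ⟨e⟩ := exists_residueEquiv hφ
  exact e.toLinearEquiv.finrank_eq

end Groth.Agent.H23Res
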