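import Mathlib
import Groth.Agent.H23Diff.SepCoeff
import Groth.Agent.H23Res.Embed
import Groth.Agent.H23Res.Residue
import Groth.Agent.H23Geom.InertiaField
import Groth.Agent.H23Geom.Ram
import Groth.Agent.H23Diff.Setup

/-!
The different exponent of a Galois extension through the ramification groups.
-/

set_option autoImplicit false
set_option linter.unusedSectionVars false
set_option linter.style.haveILetI false

namespace Groth.Agent.H23Res

open WithZero Polynomial Groth.Agent.H23Diff

section Sep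

variable {k F K : Type*} [Field k] [Field F] [Algebra k F] [Field K] [Algebra k K]
  {P : FunFld.Place k K} {Φ : K →ₐ[k] LaurentSeries F}

/-- The coefficient field is separable when the parameter separates. -/
theorem isSeparable_coeff_of_ratio (hΦ : LocRes.IsExpansionAt P.1 Φ) [FiniteDimensional k F] {t : K}
    (ht : P.1 t = exp (-1))
    (hrat : ∀ z : K, ∃ c : K, KaehlerDifferential.D k K z = c • KaehlerDifferential.D k K t) :
    Algebra.IsSeparable k F := by
  suffices hzero : ∀ δ : Derivation k F F, δ = 0 by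
    haveI : Algebra.FormallyUnramified k F := ⟨subsingleton_of_forall_eq 0 fun w => by
      refine (Module.forall_dual_apply_eq_zero_iff F w).1 fun L => ?_
      obtain ⟨L', hL'⟩ : ∃ δ, (KaehlerDifferential.linearMapEquivDerivation k F) L = δ := ⟨_, rfl⟩
      have h0 : L = 0 := (KaehlerDifferential.linearMapEquivDerivation k F).injective (by
        rw [hL', hzero L', map_zero])
      rw [h0, LinearMap.zero_apply]⟩
    exact Algebra.FormallyUnramified.isSeparable k F
  intro δ
  let _i := Φ.toRingHom.toAlgebra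
  have hk : ∀ c : k, coeffD δ (Φ (algebraMap k K c)) = 0 := fun c => by
    rw [LocRes.map_algebraMap, coeffD_C, Derivation.map_algebraMap, map_zero]
  let Δ : Derivation k K (LaurentSeries F) :=
    Derivation.mk'
      { toFun := fun z => coeffD δ (Φ z)
        map_add' := fun a b => by rw [map_add, coeffD_add]
        map_smul' := fun c a => by
          rw [RingHom.id_apply, Algebra.smul_def, map_mul, coeffD_mul, hk, mul_zero, add_zero,
            LocRes.map_algebraMap, HahnSeries.C_mul_eq_smul, algebraMap_smul] }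
      (fun a b => by
        change coeffD δ (Φ (a * b)) = Φ a * coeffD δ (Φ b) + Φ b * coeffD δ (Φ a)
        rw [map_mul, coeffD_mul])
  have _t : IsScalarTower k K (LaurentSeries F) := LocRes.isScalarTower_exp Φ
  have hrel : ∀ z : K, coeffD δ (Φ z) * LocRes.D F (Φ t) = coeffD δ (Φ t) * LocRes.D F (Φ z) := by
    intro z
    obtain ⟨c, hc⟩ := hrat z
    have h1 := congrArg Δ.liftKaehlerDifferential hc
    rw [map_smul, Derivation.liftKaehlerDifferential_comp_D, Derivation.liftKaehlerDifferential_comp_D] at h1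
    change coeffD δ (Φ z) = Φ c * coeffD δ (Φ t) at h1
    rw [h1, D_exp_eq Φ hc]; ring
  have hv1 := val_D_param hΦ ht
  have htv : Valued.v (coeffD δ (Φ t)) ≤ exp (-1 : ℤ) := by
    rw [LaurentSeries.valuation_le_iff_coeff_lt_eq_zero]
    intro n hn
    rw [coeffD_coeff, LaurentSeries.coeff_zero_of_lt_valuation F (D := 1) ((hΦ.1 t).trans ht).le hn, map_zero]
  refine Derivation.ext fun a => ?_
  obtain ⟨z, hz, hza⟩ := hΦ.2.1 a
  have h1 : Valued.v (coeffD δ (Φ z)) ≤ exp (-1 : ℤ) := by
    have h2 := congrArg Valued.v (hrel z)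
    rw [map_mul, map_mul, hv1, mul_one] at h2
    rw [h2]
    exact (mul_le_of_le_one_right zero_le (Groth.Agent.H23Diff.val_D_le ((hΦ.1 z).trans_le hz))).trans htv
  have h3 := LaurentSeries.coeff_zero_of_lt_valuation F (n := 0) (D := 1) h1 zero_lt_one
  rw [coeffD_coeff, hza] at h3
  exact h3

end Sep

section Roots

variable {F : Type*} [Field F]

/-- Non-leading coefficients of a product of small roots are small. -/
theorem coeff_prod_lt {ι : Type*} (s : Finset ι) (r : ι → LaurentSeries F) (hr : ∀ j ∈ s, Valued.v (r j) < 1) :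
    ∀ i, Valued.v ((∏ j ∈ s, (X - C (r j))).coeff i) ≤ 1 ∧
      (i < s.card → Valued.v ((∏ j ∈ s, (X - C (r j))).coeff i) < 1) := by
  classical
  induction s using Finset.induction_on with
  | empty =>
    intro i
    refine ⟨?_, fun h => absurd h (by simp)⟩
    rw [Finset.prod_empty, coeff_one]
    split_ifs <;> simp
  | insert a s ha ih =>
    intro i
    have ih' := ih fun j hj => hr j (Finset.mem_insert_of_mem hj)
    have hra := hr a (Finset.mem_insert_self a s)
    rw [Finset.prod_insert ha, Finset.card_insert_of_notMem ha]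
    cases i with
    | zero =>
      rw [mul_coeff_zero, coeff_sub, coeff_X_zero, zero_sub, coeff_C_zero, map_mul, Valuation.map_neg]
      have h := lt_of_le_of_lt (mul_le_of_le_one_right zero_le (ih' 0).1) hra
      exact ⟨h.le, fun _ => h⟩
    | succ i =>
      rw [coeff_X_sub_C_mul]
      have h : Valued.v (r a * (∏ j ∈ s, (X - C (r j))).coeff (i + 1)) < 1 := by
        rw [map_mul]; exact lt_of_le_of_lt (mul_le_of_le_one_right zero_le (ih' (i + 1)).1) hra
      rw [mul_comm] at h
      refine ⟨(Valued.v.map_sub _ _).trans (max_le (ih' i).1 (by rw [mul_comm] at h; exact h.le)), fun hi => ?_⟩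
      exact (Valued.v.map_sub _ _).trans_lt (max_lt ((ih' i).2 (by omega)) (by rw [mul_comm] at h; exact h))

end Roots

variable {k F K K' : Type*} [Field k] [Field F] [Algebra k F] [Field K] [Field K'] [Algebra k K] [Algebra K K']
  [Algebra k K'] [IsScalarTower k K K'] {Q : FunFld.Place k K'} {ψ : K' →ₐ[k] LaurentSeries F}

/-- An element of inertia acts on the completion. -/
theorem exists_action (hψ : LocRes.IsExpansionAt Q.1 ψ) [FiniteDimensional k F] [Algebra.IsSeparable k F]
    {σ : K' ≃ₐ[K] K'} (hσ : Groth.Agent.H23Geom.InG Q 1 σ) :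
    ∃ θ : LaurentSeries F →+* LaurentSeries F, (∀ a, Valued.v (θ a) = Valued.v a) ∧
      (∀ c, θ (HahnSeries.C c) = HahnSeries.C c) ∧ ∀ a : K', θ (ψ a) = ψ (σ a) := by
  let ψσ : K' →ₐ[k] LaurentSeries F := ψ.comp ((σ : K' →ₐ[K] K').restrictScalars k)
  have hc : ∀ x : K', Q.1 x ≤ 1 → (ψ (σ x)).coeff 0 = (ψ x).coeff 0 := fun x hx => by
    rw [← sub_eq_zero, ← HahnSeries.coeff_sub, ← map_sub]
    exact (val_le_iff 1).1 (by rw [hψ.1]; exact_mod_cast hσ x hx) 0 (by norm_num)
  have hψσ : LocRes.IsExpansionAt Q.1 ψσ := ⟨fun f => (hψ.1 _).trans (hσ.val_apply f), fun a => by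
    obtain ⟨f, hf, hfa⟩ := hψ.2.1 a
    exact ⟨f, hf, (hc f hf).trans hfa⟩, hψ.2.2⟩
  obtain ⟨θ, ι, hθ, hθC, hθψ⟩ := exists_embed (K' := K') hψ hψσ one_pos
    (fun a => by rw [Algebra.algebraMap_self_apply, pow_one])
  have hι : ∀ a, ι a = a := fun a => by
    obtain ⟨f, hf, rfl⟩ := hψ.2.1 a
    have h := hθψ f
    have hrest : Valued.v (θ (ψ f - HahnSeries.C ((ψ f).coeff 0))) ≤ exp (-(1 : ℤ)) := by
      rw [hθ, pow_one]
      exact val_le_of_coeff_zero ((Valued.v.map_sub _ _).trans (max_le ((hψ.1 f).trans_le hf) (val_C_le _)))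
        (by simp)
    have h0 := (val_le_iff 1).1 hrest 0 (by norm_num)
    rw [map_sub, hθC, h, HahnSeries.coeff_sub, sub_eq_zero] at h0
    simp only [Algebra.algebraMap_self_apply] at h0
    have h1 : ι ((ψ f).coeff 0) = (ψ (σ f)).coeff 0 := by simpa [ψσ] using h0.symm
    exact h1.trans (hc f hf)
  exact ⟨θ, fun a => (hθ a).trans (pow_one _), fun c => (hθC c).trans (by rw [hι]),
    fun a => (hθψ a).trans (by rw [Algebra.algebraMap_self_apply]; rfl)⟩

/-- The derivative of the parameter below. -/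
theorem val_D_param_below [FiniteDimensional K K'] (hψ : LocRes.IsExpansionAt Q.1 ψ) [FiniteDimensional k F]
    [Algebra.IsSeparable k F] [Algebra.IsSeparable k (IsLocalRing.ResidueField Q.O)]
    {P : FunFld.Place k K} {e : ℕ} (he : FunFld.IsOverWith Q P e) {t : K} (ht : P.1 t = exp (-1))
    {s : K'} (hs : Q.1 s = exp (-1)) (G : Finset (K' ≃ₐ[K] K'))
    (hG : ∀ σ, σ ∈ G ↔ Groth.Agent.H23Geom.InG Q 1 σ) (hcard : G.card = e) [DecidableEq (K' ≃ₐ[K] K')] :
    Valued.v (LocRes.D F (ψ (algebraMap K K' t))) = ∏ σ ∈ G.erase 1, Q.1 (σ s - s) := by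
  classical
  have hepos : 0 < e := Groth.Agent.H23Ext.IsOverWith.pos he
  set τ := ψ (algebraMap K K' t) with hτ
  have hτv : Valued.v τ = exp (-(e : ℤ)) := by rw [hτ, hψ.1, he, ht, ← exp_nsmul]; simp
  obtain ⟨n, w, hw, heq⟩ := exists_decomp (fun h : τ = 0 => exp_ne_zero (hτv.symm.trans (by rw [h, map_zero])))
  have hn : n = e := by
    have h := congrArg Valued.v heq
    rw [hτv, map_mul, val_var_zpow, val_co_unit hw, mul_one, exp_inj] at h
    omega
  let S : Subst F := ⟨PowerSeries.X ^ e * w, e, w, hepos, hw, rfl⟩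
  have hSX : S.hom (var F) = τ := by rw [S.hom_var, heq, hn, map_mul, map_pow, co_X, zpow_natCast]
  choose! θ hθv hθC hθψ using fun (σ : K' ≃ₐ[K] K') (hσ : σ ∈ G) => exists_action hψ ((hG σ).1 hσ)
  have hθS : ∀ σ ∈ G, ∀ a, θ σ (S.hom a) = S.hom a := fun σ hσ => RingHom.congr_fun
    (hom_ext (θ := (θ σ).comp S.hom) (θ' := S.hom) (e := e) hepos
      (fun a => by rw [RingHom.comp_apply, hθv σ hσ]; exact S.val_hom a) S.val_hom
      (fun c => by rw [RingHom.comp_apply, S.hom_C, hθC σ hσ])
      (by rw [RingHom.comp_apply, hSX, hτ, hθψ σ hσ, AlgEquiv.commutes]))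
  obtain ⟨pb, -, hdim⟩ := S.exists_powerBasis
  haveI := pb.finite
  set y : Tgt S.hom := ψ s with hy
  set p := minpoly (LaurentSeries F) y
  have hpm : p.Monic := minpoly.monic (IsIntegral.of_finite _ _)
  have hpe : p.natDegree ≤ e := (minpoly.natDegree_le y).trans_eq (pb.finrank.trans hdim)
  have hpy : p.eval₂ S.hom (ψ s) = 0 := minpoly.aeval (LaurentSeries F) y
  set p' : (LaurentSeries F)[X] := p.map S.hom with hp'
  have hroot : ∀ σ ∈ G, p'.eval (ψ (σ s)) = 0 := fun σ hσ => by
    rw [hp', eval_map, ← hθψ σ hσ]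
    have h := hom_eval₂ p S.hom (θ σ) (ψ s)
    rw [hpy, map_zero, show (θ σ).comp S.hom = S.hom from RingHom.ext (hθS σ hσ)] at h
    exact h.symm
  have hinj : Set.InjOn (fun σ : K' ≃ₐ[K] K' => ψ (σ s)) G := by
    intro a ha b hb hab
    have hab' : a s = b s := ψ.toRingHom.injective hab
    have hρ : Groth.Agent.H23Geom.InG Q 1 (b⁻¹ * a) := ((hG b).1 hb).inv.mul ((hG a).1 ha)
    have hfix : (b⁻¹ * a) s = s := by
      rw [AlgEquiv.mul_apply, hab']; exact b.symm_apply_apply s
    suffices b⁻¹ * a = 1 from (inv_mul_eq_one.1 this).symm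
    have hall : ∀ x : K', Q.1 x ≤ 1 → (b⁻¹ * a) x = x := fun x hx => by
      by_contra hne
      have hd : Q.1 ((b⁻¹ * a) x - x) ≠ 0 := (Valuation.ne_zero_iff _).2 (sub_ne_zero.2 hne)
      set m := (-log (Q.1 ((b⁻¹ * a) x - x))).toNat + 1
      have h := (Groth.Agent.H23Geom.inG_iff hs hρ m).2 (by rw [hfix, sub_self, map_zero]; exact zero_le) x hx
      rw [← exp_log hd, exp_le_exp] at h
      omega
    refine AlgEquiv.ext fun x => ?_
    rcases le_total (Q.1 x) 1 with hx | hx
    · exact hall x hx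
    · have h := hall x⁻¹ (by rw [map_inv₀]; exact inv_le_one_of_one_le₀ hx)
      rw [map_inv₀, inv_inj] at h
      exact h
  set R := ∏ σ ∈ G, (X - C (ψ (σ s))) with hR
  have hRm : R.Monic := monic_prod_of_monic _ _ fun σ _ => monic_X_sub_C _
  have hRdeg : R.natDegree = e := by
    rw [hR, natDegree_prod_of_monic _ _ fun σ _ => monic_X_sub_C _]; simp [hcard]
  have hdvd : R ∣ p' := Finset.prod_dvd_of_coprime
    (fun a ha b hb hne => (pairwise_coprime_X_sub_C (s := fun σ : G => ψ ((σ : K' ≃ₐ[K] K') s))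
      (fun a b h => Subtype.ext (hinj a.2 b.2 h)) (i := ⟨a, ha⟩) (j := ⟨b, hb⟩) (by simpa using hne)))
    (fun σ hσ => dvd_iff_isRoot.2 (hroot σ hσ))
  have hp'R : p' = R := eq_of_monic_of_dvd_of_natDegree_le hRm (hpm.map _) hdvd
    (by rw [hRdeg]; exact (natDegree_map_le).trans hpe)
  have hpd : p.natDegree = e := by
    rw [← hpm.natDegree_map S.hom]; exact (congrArg natDegree hp'R).trans hRdeg
  have hvs : ∀ σ ∈ G, Valued.v (ψ (σ s)) = exp (-1) := fun σ hσ => by
    rw [hψ.1, ((hG σ).1 hσ).val_apply, hs]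
  -- the coefficients
  have hcoef : ∀ i, S.hom (p.coeff i) = R.coeff i := fun i => by rw [← hp'R, hp', coeff_map]
  have hb1 : ∀ i, i < e → Valued.v (p.coeff i) < 1 := fun i hi => by
    have h := (coeff_prod_lt G (fun σ => ψ (σ s)) (fun σ hσ => by
      rw [hvs σ hσ, ← exp_zero, exp_lt_exp]; norm_num) i).2 (by rw [hcard]; exact hi)
    rw [← hR, ← hcoef, S.val_hom] at h
    exact (pow_lt_one_iff_of_nonneg zero_le hepos.ne').1 h
  have hb0 : Valued.v (p.coeff 0) = exp (-1) := by
    have h : Valued.v (S.hom (p.coeff 0)) = exp (-1) ^ e := by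
      rw [hcoef, coeff_zero_eq_eval_zero, hR, eval_prod, map_prod, Finset.prod_congr rfl fun σ hσ => ?_,
        Finset.prod_const, hcard]
      rw [eval_sub, eval_X, eval_C, zero_sub, Valuation.map_neg, hvs σ hσ]
    rw [S.val_hom] at h
    exact (pow_left_inj₀ zero_le zero_le hepos.ne').1 h
  -- differentiate the relation
  have hD0 : ∑ i ∈ Finset.range (p.natDegree + 1), LocRes.D F (S.hom (p.coeff i) * ψ s ^ i) = 0 := by
    rw [← map_sum, ← eval₂_eq_sum_range, hpy, map_zero]
  have hterm : ∀ i, LocRes.D F (S.hom (p.coeff i) * ψ s ^ i) =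
      LocRes.D F τ * (S.hom (LocRes.D F (p.coeff i)) * ψ s ^ i) +
      LocRes.D F (ψ s) * (S.hom (p.coeff i) * ((i : LaurentSeries F) * ψ s ^ (i - 1))) := fun i => by
    rw [Derivation.leibniz, Derivation.leibniz_pow, smul_eq_mul, smul_eq_mul, nsmul_eq_mul, smul_eq_mul,
      D_map (θ := S.hom) (ι := id) hepos S.val_hom (fun c => S.hom_C c), hSX]
    ring
  simp only [hterm, Finset.sum_add_distrib, ← Finset.mul_sum] at hD0
  have hder : ∑ i ∈ Finset.range (p.natDegree + 1), S.hom (p.coeff i) * ((i : LaurentSeries F) * ψ s ^ (i - 1)) =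
      ∏ σ ∈ G.erase 1, (ψ s - ψ (σ s)) := by
    have h1 : (derivative R).eval (ψ s) = ∏ σ ∈ G.erase 1, (ψ s - ψ (σ s)) := by
      have hone : (1 : K' ≃ₐ[K] K') ∈ G := (hG 1).2 (Groth.Agent.H23Geom.inG_one 1)
      rw [hR, ← Finset.mul_prod_erase G _ hone, derivative_mul, eval_add, eval_mul, eval_mul, derivative_X_sub_C,
        eval_one, one_mul, eval_sub, eval_X, eval_C, AlgEquiv.one_apply, sub_self, zero_mul, add_zero, eval_prod]
      simp
    rw [← h1, ← hp'R, hp', derivative_map, eval_map]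
    conv_rhs => rw [p.as_sum_range_C_mul_X_pow]
    rw [derivative_sum, eval₂_finsetSum]
    refine Finset.sum_congr rfl fun i _ => ?_
    rw [derivative_C_mul_X_pow, eval₂_mul, eval₂_C, map_mul, map_natCast, eval₂_X_pow]
    ring
  have hDy : Valued.v (LocRes.D F (ψ s)) = 1 := Groth.Agent.H23Diff.val_D_param hψ hs
  have hAv : Valued.v (∑ i ∈ Finset.range (p.natDegree + 1), S.hom (LocRes.D F (p.coeff i)) * ψ s ^ i) = 1 := by
    rw [hpd, Finset.sum_range_succ']
    have h0 : Valued.v (S.hom (LocRes.D F (p.coeff 0)) * ψ s ^ 0) = 1 := by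
      rw [pow_zero, mul_one, S.val_hom]
      have hd : Valued.v (LocRes.D F (p.coeff 0)) = 1 := by
        refine val_eq_one_of_coeff_zero (val_D_le_one (hb0.trans_le (by rw [← exp_zero, exp_le_exp]; norm_num))) ?_
        rw [LocRes.D_coeff, zero_add, one_smul]
        intro hc0
        have h2 : Valued.v (p.coeff 0) ≤ exp (-(2 : ℤ)) := (val_le_iff 2).2 fun n hn => by
          rcases eq_or_ne n 1 with rfl | hne
          · exact hc0
          · exact (val_le_iff 1).1 hb0.le n (by omega)
        rw [hb0, exp_le_exp] at h2; omega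
      rw [hd, one_pow]
    rw [Valued.v.map_add_eq_of_lt_right, h0]
    rw [h0]
    refine Valued.v.map_sum_lt one_ne_zero fun i hi => ?_
    rw [map_mul, map_pow, hψ.1, hs, S.val_hom]
    refine lt_of_le_of_lt (mul_le_of_le_one_left zero_le (pow_le_one₀ zero_le (val_D_le_one ?_))) ?_
    · rcases lt_or_eq_of_le (Nat.succ_le_of_lt (Finset.mem_range.1 hi)) with h | h
      · exact (hb1 _ h).le
      · rw [show p.coeff (i + 1) = 1 by rw [show i + 1 = p.natDegree by rw [hpd]; exact h]; exact hpm, map_one]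
    · rw [← exp_nsmul, ← exp_zero, exp_lt_exp]; simp; omega
  have h := congrArg Valued.v (eq_neg_of_add_eq_zero_left hD0)
  rw [map_mul, hAv, mul_one, Valuation.map_neg, map_mul, hDy, one_mul, hder, map_prod] at h
  refine h.trans (Finset.prod_congr rfl fun σ _ => ?_)
  rw [← map_sub, hψ.1, Valuation.map_sub_swap]

end Groth.Agent.H23Res
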