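import Mathlib
import Groth.Agent.H23Res.Embed
import Groth.Agent.H23Geom.Criteria
import Groth.Agent.H23Geom.Separating
import Groth.Agent.H23FunFld.Basic

/-!
A function field with one separable place is geometric.
-/

set_option autoImplicit false
set_option linter.unusedSectionVars false
set_option linter.style.haveILetI false

universe u v w

namespace Groth.Agent.H23Res

open WithZero IntermediateField

variable {k : Type u} {K : Type v} {F : Type w} [Field k] [Field K] [Algebra k K] [Field F] [Algebra k F]

theorem coeff_pow_char (p : ℕ) [Fact p.Prime] [CharP F p] (f : LaurentSeries F) (n : ℤ) :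
    (f ^ p).coeff (p * n) = f.coeff n ^ p := by
  classical
  haveI : CharP (LaurentSeries F) p := charP_of_injective_ringHom (HahnSeries.C (Γ := ℤ) (R := F)).injective p
  obtain ⟨s, hs, hb⟩ := exists_trunc f (n + 1)
  set b := f - ∑ m ∈ s, HahnSeries.C (f.coeff m) * var F ^ m with hbdef
  have hf : f = b + ∑ m ∈ s, HahnSeries.C (f.coeff m) * var F ^ m := by rw [hbdef]; ring
  have hbp : Valued.v (b ^ p) ≤ exp (-((p : ℤ) * (n + 1))) := by
    rw [map_pow]
    refine (pow_le_pow_left₀ zero_le hb p).trans_eq ?_
    rw [← exp_nsmul, nsmul_eq_mul]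
    ring_nf
  have h0 : (b ^ p).coeff (p * n) = 0 := (val_le_iff _).1 hbp _ (by
    have := (Fact.out : p.Prime).pos; nlinarith)
  conv_lhs => rw [hf]
  rw [add_pow_char, sum_pow_char, HahnSeries.coeff_add, h0, zero_add, HahnSeries.coeff_sum]
  have hterm : ∀ m : ℤ, ((HahnSeries.C (f.coeff m) * var F ^ m) ^ p).coeff (p * n) =
      if n = m then f.coeff m ^ p else 0 := fun m => by
    rw [mul_pow, ← map_pow, ← zpow_natCast (var F ^ m) p, ← zpow_mul, mul_comm m, ← single_eq,
      HahnSeries.coeff_single]
    simp [(Fact.out : p.Prime).ne_zero]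
  rw [Finset.sum_congr rfl fun m _ => hterm m, Finset.sum_ite_eq]
  split_ifs with h
  · rfl
  · have hn : f.coeff n = 0 := by
      have h1 := (val_le_iff _).1 hb n (lt_add_one n)
      rw [hbdef, HahnSeries.coeff_sub, HahnSeries.coeff_sum, Finset.sum_eq_zero (fun m hm => ?_), sub_zero] at h1
      · exact h1
      · rw [← single_eq, HahnSeries.coeff_single, if_neg]
        rintro rfl; exact h hm
    rw [hn, zero_pow (Fact.out : p.Prime).ne_zero]

variable [Algebra.IsSeparable k F] [FiniteDimensional k F] (φ : K →ₐ[k] LaurentSeries F)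
include φ

/-- `p`-th powers of independent elements stay independent. -/
theorem linearIndepOn_pow (p : ℕ) (hp : p.Prime) [CharP k p]
    (s : Finset K) (hs : LinearIndepOn k _root_.id (s : Set K)) :
    LinearIndepOn k (· ^ p) (s : Set K) := by
  classical
  haveI := Fact.mk hp
  haveI : CharP F p := charP_of_injective_algebraMap (algebraMap k F).injective p
  haveI : ExpChar k p := ExpChar.prime hp
  show LinearIndependent k fun i : ↥(s : Set K) => (i : K) ^ p
  rw [Fintype.linearIndependent_iff]
  intro c hc
  set B := Module.finBasis k F with hB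
  have hBp : LinearIndependent k (fun j => B j ^ p) := by
    simpa using LinearIndependent.map_pow_expChar_pow_of_isSeparable p 1 B.linearIndependent
  -- the vectors killed by `c`
  let S : Submodule k (↥(s : Set K) → k) :=
    { carrier := {z | ∑ i, c i * z i ^ p = 0}
      add_mem' := fun {a b} ha hb => by
        simp only [Set.mem_ofPred_eq, Pi.add_apply, add_pow_char, mul_add, Finset.sum_add_distrib] at ha hb ⊢
        rw [ha, hb, add_zero]
      zero_mem' := by simp [hp.ne_zero]
      smul_mem' := fun a z hz => by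
        simp only [Set.mem_ofPred_eq, Pi.smul_apply, smul_eq_mul, mul_pow] at hz ⊢
        simp only [mul_left_comm (c _), ← Finset.mul_sum, hz, mul_zero] }
  have hcol : ∀ (n : ℤ) (j : Fin (Module.finrank k F)),
      (fun i : ↥(s : Set K) => B.repr ((φ (i : K)).coeff n) j) ∈ S := by
    intro n
    have h1 := congrArg (fun x => (φ x).coeff ((p : ℤ) * n)) hc
    simp only [map_sum, map_smul, map_pow, map_zero, HahnSeries.coeff_sum, HahnSeries.coeff_zero,
      Algebra.smul_def, map_mul, algebraMap_laurent, HahnSeries.C_mul_eq_smul, HahnSeries.coeff_smul,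
      coeff_pow_char, smul_eq_mul, LocRes.map_algebraMap] at h1
    have h2 : ∑ j, (∑ i, c i * B.repr ((φ (i : K)).coeff n) j ^ p) • B j ^ p = 0 := by
      rw [← h1]
      simp only [Finset.sum_smul]
      rw [Finset.sum_comm]
      refine Finset.sum_congr rfl fun i _ => ?_
      conv_rhs => rw [← B.sum_repr ((φ (i : K)).coeff n), sum_pow_char, Finset.mul_sum]
      refine Finset.sum_congr rfl fun j _ => ?_
      rw [Algebra.smul_def, Algebra.smul_def, mul_pow, map_mul, map_pow, Algebra.algebraMap_self_apply]
      ring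
    exact Fintype.linearIndependent_iff.1 hBp _ h2
  have htop : S = ⊤ := by
    by_contra hne
    obtain ⟨f, hf0, hf⟩ := S.exists_dual_map_eq_bot_of_lt_top (lt_top_iff_ne_top.2 hne) inferInstance
    refine hf0 ((Pi.basisFun k ↥(s : Set K)).ext fun i => ?_)
    rw [LinearMap.zero_apply, Pi.basisFun_apply]
    have hd : ∑ i, f (Pi.single i 1) • (i : K) = 0 := by
      refine φ.toRingHom.injective ?_
      rw [map_zero]
      refine HahnSeries.ext (funext fun n => B.repr.injective (Finsupp.ext fun j => ?_))
      have h3 : f (fun i : ↥(s : Set K) => B.repr ((φ (i : K)).coeff n) j) = 0 := by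
        have := Submodule.mem_map_of_mem (f := f) (hcol n j)
        rwa [hf, Submodule.mem_bot] at this
      rw [← (Pi.basisFun k ↥(s : Set K)).sum_repr (fun i : ↥(s : Set K) => B.repr ((φ (i : K)).coeff n) j)] at h3
      simp only [map_sum, map_smul, Pi.basisFun_repr, Pi.basisFun_apply, smul_eq_mul] at h3
      simp only [AlgHom.toRingHom_eq_coe, RingHom.coe_coe, map_sum, HahnSeries.coeff_sum, HahnSeries.coeff_zero,
        map_zero, Finsupp.coe_zero, Pi.zero_apply, Finsupp.finsetSum_apply]
      refine Eq.trans (Finset.sum_congr rfl fun i _ => ?_) h3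
      rw [Algebra.smul_def, map_mul, LocRes.map_algebraMap, HahnSeries.C_mul_eq_smul, HahnSeries.coeff_smul,
        smul_eq_mul, ← Algebra.smul_def, map_smul, Finsupp.smul_apply, smul_eq_mul, mul_comm]
    exact Fintype.linearIndependent_iff.1 hs _ hd i
  intro i
  have h := (htop.ge Submodule.mem_top : (Pi.single i 1 : ↥(s : Set K) → k) ∈ S)
  change ∑ l, c l * (Pi.single i 1 : ↥(s : Set K) → k) l ^ p = 0 at h
  rw [Finset.sum_eq_single i (fun l _ hl => by simp [Pi.single_eq_of_ne hl, hp.ne_zero]) (by simp)] at h
  simpa using h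

/-- A function field with a separable place is geometric. -/
theorem isGeometric_of_expansion (hK : FunFld.IsFunctionField k K) : FunFld.IsGeometric k K := by
  haveI := Groth.Agent.H23Geom.essFiniteType hK
  rcases CharP.exists' k with h0 | ⟨p, hp, hpk⟩
  · haveI := h0
    exact Groth.Agent.H23Geom.isGeometric_of_perfectField hK
  obtain ⟨⟨x₀, hx₀, hfin⟩, hcl⟩ := hK
  have hK : FunFld.IsFunctionField k K := ⟨⟨x₀, hx₀, hfin⟩, hcl⟩
  obtain ⟨s, hs, hsep⟩ := exists_isTranscendenceBasis_and_isSeparable_of_linearIndepOn_pow_of_essFiniteType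
    p hp.out (linearIndepOn_pow φ p hp.out)
  have h1 : IsTranscendenceBasis k (fun _ : PUnit.{v + 1} => x₀) := by
    have hai : AlgebraicIndependent k (fun _ : PUnit.{v + 1} => x₀) :=
      (algebraicIndependent_unique_type_iff (ι := PUnit.{v + 1})).2 hx₀
    rw [hai.isTranscendenceBasis_iff_isAlgebraic]
    haveI : Algebra.IsAlgebraic (adjoin k ({x₀} : Set K)) K := Algebra.IsAlgebraic.of_finite _ _
    rw [Set.range_const]
    exact IntermediateField.isAlgebraic_adjoin_iff_top.1 (Algebra.IsAlgebraic.of_finite (adjoin k ({x₀} : Set K)) K)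
  have hcard : (s : Finset K).card = 1 := by
    have := h1.cardinalMk_eq hs
    simpa using this.symm
  obtain ⟨x, rfl⟩ := Finset.card_eq_one.1 hcard
  rw [Finset.coe_singleton] at hsep
  haveI := hsep
  have hx := Groth.Agent.H23Geom.transcendental_of_isSeparable hK (x := x)
  haveI := Groth.Agent.H23FunFld.finiteDimensional_adjoin hK hx
  exact Groth.Agent.H23Geom.isGeometric_of_separating hcl hx

end Groth.Agent.H23Res
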