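import Mathlib
import Groth.Agent.H23Res.Embed
import Groth.Agent.H23FunFld.Approx

/-!
The completion of an extension decomposed along finitely many valuations.
-/

set_option autoImplicit false
set_option linter.unusedSectionVars false
set_option linter.style.haveILetI false

namespace Groth.Agent.H23Res

open WithZero

section Tgt

variable {F F' : Type*} [Field F] [Field F'] [Algebra F F'] [FiniteDimensional F F']

theorem finrank_tgt {θ : LaurentSeries F →+* LaurentSeries F'} {e : ℕ} (he : 0 < e)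
    (hθ : ∀ a, Valued.v (θ a) = Valued.v a ^ e)
    (hC : ∀ c, θ (HahnSeries.C c) = HahnSeries.C (algebraMap F F' c)) :
    Module.Finite (LaurentSeries F) (Tgt θ) ∧
      Module.finrank (LaurentSeries F) (Tgt θ) = e * Module.finrank F F' := by
  obtain ⟨S, rfl, rfl⟩ := exists_subst he hθ hC
  obtain ⟨pb, -, hdim⟩ := S.exists_powerBasis
  haveI := pb.finite
  haveI := finite_mapHom (F := F) (F' := F')
  letI : Algebra (Tgt (mapHom (algebraMap F F'))) (Tgt (S.hom.comp (mapHom (algebraMap F F')))) :=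
    RingHom.toAlgebra (S := Tgt (S.hom.comp (mapHom (algebraMap F F')))) S.hom
  haveI : IsScalarTower (LaurentSeries F) (Tgt (mapHom (algebraMap F F')))
      (Tgt (S.hom.comp (mapHom (algebraMap F F')))) :=
    IsScalarTower.of_algebraMap_eq fun _ => rfl
  haveI : Module.Finite (Tgt (mapHom (algebraMap F F'))) (Tgt (S.hom.comp (mapHom (algebraMap F F')))) :=
    pb.finite
  refine ⟨Module.Finite.trans (Tgt (mapHom (algebraMap F F'))) _, ?_⟩
  rw [← Module.finrank_mul_finrank (LaurentSeries F) (Tgt (mapHom (algebraMap F F')))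
    (Tgt (S.hom.comp (mapHom (algebraMap F F')))), mul_comm S.e]
  congr 1
  · obtain ⟨B, -, -⟩ := exists_basis_mapHom (Module.finBasis F F' : Module.Basis _ F F')
    rw [Module.finrank_eq_card_basis B, Fintype.card_fin]
  · exact pb.finrank.trans hdim

end Tgt

section Sum

variable {A : Type*} [Field A] {ι : Type*} [Fintype ι] {B : ι → Type*} [∀ i, Field (B i)]

/-- The trace of a finite product of extensions is the sum of traces. -/
theorem sum_tr (θ : ∀ i, A →+* B i) [∀ i, Module.Finite A (Tgt (θ i))] (g : ∀ i, Tgt (θ i)) :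
    ∑ i, tr (θ i) (g i) = Algebra.trace A (∀ i, Tgt (θ i)) g := by
  classical
  set b := fun i => Module.finBasis A (Tgt (θ i))
  rw [Algebra.trace_eq_matrix_trace (Pi.basis b), Matrix.trace, ← Finset.univ_sigma_univ, Finset.sum_sigma]
  refine Finset.sum_congr rfl fun i _ => ?_
  change Algebra.trace A (Tgt (θ i)) (show Tgt (θ i) from g i) = _
  rw [Algebra.trace_eq_matrix_trace (b i), Matrix.trace]
  refine Finset.sum_congr rfl fun j _ => ?_
  rw [Matrix.diag_apply, Matrix.diag_apply, Algebra.leftMulMatrix_eq_repr_mul, Algebra.leftMulMatrix_eq_repr_mul,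
    Pi.basis_repr, Pi.basis_apply, Pi.mul_apply, Pi.single_eq_same]

end Sum

variable {k F K K' : Type*} [Field k] [Field F] [Algebra k F] [Field K] [Field K'] [Algebra k K] [Algebra k K']
  [Algebra K K'] [IsScalarTower k K K'] {v : Valuation K (WithZero (Multiplicative ℤ))}
  {φ : K →ₐ[k] LaurentSeries F}
  {ι : Type*} [Fintype ι] {F' : ι → Type*} [∀ i, Field (F' i)] [∀ i, Algebra k (F' i)]
  {w : ι → Valuation K' (WithZero (Multiplicative ℤ))} {ψ : ∀ i, K' →ₐ[k] LaurentSeries (F' i)}
  {θ : ∀ i, LaurentSeries F →+* LaurentSeries (F' i)} {e : ι → ℕ} {c : ∀ i, F →ₐ[k] F' i}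

/-- The diagonal map to the product of completions. -/
noncomputable def Psi (θ : ∀ i, LaurentSeries F →+* LaurentSeries (F' i))
    (ψ : ∀ i, K' →ₐ[k] LaurentSeries (F' i)) (y : K') : ∀ i, Tgt (θ i) := fun i => ψ i y

theorem val_var_pow (N : ℕ) : Valued.v (var F ^ N) = exp (-(N : ℤ)) := by
  rw [← zpow_natCast, val_var_zpow]

theorem Psi_apply (y : K') (i : ι) : Psi θ ψ y i = (show Tgt (θ i) from ψ i y) := rfl

theorem Psi_sum_smul (hθφ : ∀ i a, θ i (φ a) = ψ i (algebraMap K K' a)) {J : Type*} (s : Finset J) (a : J → K)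
    (b : J → K') : Psi θ ψ (∑ j ∈ s, a j • b j) = ∑ j ∈ s, φ (a j) • Psi θ ψ (b j) := by
  funext i
  rw [Psi_apply, Finset.sum_apply, map_sum]
  refine Finset.sum_congr rfl fun j _ => ?_
  rw [Algebra.smul_def, map_mul, ← hθφ i]
  rfl

variable (hψ : ∀ i, LocRes.IsExpansionAt (w i) (ψ i)) (he : ∀ i, 0 < e i)
  (hθ : ∀ i a, Valued.v (θ i a) = Valued.v a ^ e i)
  (hθC : ∀ i x, θ i (HahnSeries.C x) = HahnSeries.C (c i x))
  (hθφ : ∀ i a, θ i (φ a) = ψ i (algebraMap K K' a))

/-- Series with an expansion by finitely many elements modulo the variable are combinations of them. -/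
theorem eq_sum_of_step (hθ : ∀ i a, Valued.v (θ i a) = Valued.v a ^ e i)
    (hθC : ∀ i x, θ i (HahnSeries.C x) = HahnSeries.C (c i x)) (he : ∀ i, 0 < e i) {n : ℕ}
    (y : Fin n → ∀ i, LaurentSeries (F' i)) (hy : ∀ l i, Valued.v (y l i) ≤ 1)
    (hstep : ∀ g : ∀ i, LaurentSeries (F' i), (∀ i, Valued.v (g i) ≤ 1) →
      ∃ (a : Fin n → k) (g' : ∀ i, LaurentSeries (F' i)), (∀ i, Valued.v (g' i) ≤ 1) ∧
        ∀ i, g i = θ i (var F) * g' i + ∑ l, HahnSeries.C (algebraMap k (F' i) (a l)) * y l i)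
    (g : ∀ i, LaurentSeries (F' i)) (hg : ∀ i, Valued.v (g i) ≤ 1) :
    ∃ s : Fin n → LaurentSeries F, ∀ i, g i = ∑ l, θ i (s l) * y l i := by
  choose a next hnext hnext' using hstep
  let T := {g : ∀ i, LaurentSeries (F' i) // ∀ i, Valued.v (g i) ≤ 1}
  let nx : T → T := fun g => ⟨next g.1 g.2, hnext g.1 g.2⟩
  let G : ℕ → T := fun N => nx^[N] ⟨g, hg⟩
  let coef : ℕ → Fin n → k := fun N => a (G N).1 (G N).2
  let sl : Fin n → PowerSeries F := fun l => PowerSeries.mk fun N => algebraMap k F (coef N l)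
  refine ⟨fun l => HahnSeries.ofPowerSeries ℤ F (sl l), fun i => eq_of_val_le fun N => ?_⟩
  let part := fun (N : ℕ) (l : Fin n) =>
    ∑ m ∈ Finset.range N, HahnSeries.C (algebraMap k F (coef m l)) * var F ^ m
  have hind : ∀ N : ℕ, g i = θ i (var F) ^ N * (G N).1 i + ∑ l, θ i (part N l) * y l i := by
    intro N
    induction N with
    | zero => simp [part, G]
    | succ N ih =>
      have hp : ∀ l, θ i (part (N + 1) l) * y l i = θ i (part N l) * y l i +
          θ i (var F) ^ N * (HahnSeries.C (algebraMap k (F' i) (coef N l)) * y l i) := fun l => by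
        simp only [part]
        rw [Finset.sum_range_succ, map_add, map_mul, map_pow, hθC, AlgHom.commutes]
        ring
      rw [Finset.sum_congr rfl fun l _ => hp l, Finset.sum_add_distrib, ← Finset.mul_sum,
        show (G (N + 1)).1 i = next (G N).1 (G N).2 i from
          congrArg (fun x : T => x.1 i) (Function.iterate_succ_apply' nx N ⟨g, hg⟩), pow_succ, ih,
        hnext' (G N).1 (G N).2 i]
      ring
  rw [hind N, show θ i (var F) ^ N * (G N).1 i + ∑ l, θ i (part N l) * y l i -
      ∑ l, θ i (HahnSeries.ofPowerSeries ℤ F (sl l)) * y l i = θ i (var F) ^ N * (G N).1 i +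
        ∑ l, θ i (part N l - HahnSeries.ofPowerSeries ℤ F (sl l)) * y l i by
    simp only [map_sub, sub_mul, Finset.sum_sub_distrib]; ring]
  have hN : (N : ℤ) ≤ e i * (N : ℤ) :=
    le_mul_of_one_le_left (Int.natCast_nonneg N) (by have := he i; omega)
  refine (Valued.v.map_add _ _).trans (max_le ?_ (Valued.v.map_sum_le fun l _ => ?_))
  · rw [map_mul, map_pow, hθ, val_var, ← exp_nsmul, ← exp_nsmul]
    refine (mul_le_of_le_one_right zero_le ((G N).2 i)).trans (exp_le_exp.2 ?_)
    simp only [nsmul_eq_mul]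
    linarith
  · rw [map_mul]
    refine (mul_le_of_le_one_right zero_le (hy l i)).trans ((val_map_le (hθ i) (N := (N : ℤ)) ?_).trans (exp_le_exp.2 (by omega)))
    refine (val_le_iff _).2 fun j hj => ?_
    rw [HahnSeries.coeff_sub, sub_eq_zero]
    rcases lt_or_ge j 0 with h | h
    · rw [(val_le_iff (f := HahnSeries.ofPowerSeries ℤ F (sl l)) 0).1 (by rw [neg_zero, exp_zero]; exact val_co_le _) j h,
        HahnSeries.coeff_sum]
      refine Finset.sum_eq_zero fun m _ => ?_
      rw [← zpow_natCast, ← single_eq, HahnSeries.coeff_single, if_neg (by omega)]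
    · obtain ⟨m, rfl⟩ := Int.eq_ofNat_of_zero_le h
      rw [LaurentSeries.coeff_coe_powerSeries, PowerSeries.coeff_mk, HahnSeries.coeff_sum]
      simp only [← zpow_natCast (var F), ← single_eq, HahnSeries.coeff_single]
      exact (Finset.sum_eq_single m (fun x _ hx => if_neg (by omega))
        (fun h => absurd (Finset.mem_range.2 (by omega)) h)).trans (if_pos rfl)

include hψ he hθ hθC in
/-- Finitely many field elements generate the integral tuples modulo the variable. -/
theorem exists_step [∀ i, FiniteDimensional k (F' i)]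
    (happ : ∀ (a : ι → K') (m : ι → ℤ), ∃ y : K', ∀ i, w i (y - a i) ≤ exp (m i)) :
    ∃ (n : ℕ) (y : Fin n → K'), (∀ l i, Valued.v (ψ i (y l)) ≤ 1) ∧
      ∀ g : ∀ i, LaurentSeries (F' i), (∀ i, Valued.v (g i) ≤ 1) →
      ∃ (a : Fin n → k) (g' : ∀ i, LaurentSeries (F' i)), (∀ i, Valued.v (g' i) ≤ 1) ∧
        ∀ i, g i = θ i (var F) * g' i + ∑ l, HahnSeries.C (algebraMap k (F' i) (a l)) * ψ i (y l) := by
  classical
  have hlift : ∀ r : (∀ i, Fin (e i) → F' i), ∃ y : K', ∀ i, Valued.v (ψ i y) ≤ 1 ∧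
      ∀ m : Fin (e i), (ψ i y).coeff (m : ℕ) = r i m := by
    intro r
    let g : ∀ i, LaurentSeries (F' i) := fun i => ∑ m : Fin (e i), HahnSeries.single ((m : ℕ) : ℤ) (r i m)
    have hg : ∀ i (m : Fin (e i)), (g i).coeff (m : ℕ) = r i m := fun i m => by
      simp only [g, HahnSeries.coeff_sum, HahnSeries.coeff_single]
      refine (Finset.sum_eq_single m (fun n _ hn => if_neg fun h => hn (Fin.ext (by omega))) (by simp)).trans (if_pos rfl)
    have hg1 : ∀ i, Valued.v (g i) ≤ 1 := fun i => by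
      rw [← exp_zero, ← neg_zero, val_le_iff]
      intro n hn
      simp only [g, HahnSeries.coeff_sum, HahnSeries.coeff_single]
      exact Finset.sum_eq_zero fun m _ => if_neg (by omega)
    choose a ha using fun i => exists_approx (hψ i) (g i) (e i)
    obtain ⟨y, hy⟩ := happ a fun i => -(e i : ℤ)
    refine ⟨y, fun i => ?_⟩
    have hd : Valued.v (ψ i y - g i) ≤ exp (-(e i : ℤ)) := by
      rw [show ψ i y - g i = ψ i (y - a i) + (ψ i (a i) - g i) by rw [map_sub]; ring]
      exact (Valued.v.map_add _ _).trans (max_le (((hψ i).1 _).trans_le (hy i)) (ha i))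
    refine ⟨?_, fun m => ?_⟩
    · rw [show ψ i y = (ψ i y - g i) + g i by ring]
      exact (Valued.v.map_add _ _).trans (max_le (hd.trans (by rw [← exp_zero, exp_le_exp]; omega)) (hg1 i))
    · rw [← hg i m, ← sub_eq_zero, ← HahnSeries.coeff_sub]
      exact (val_le_iff _).1 hd _ (by exact_mod_cast m.2)
  choose Y hY using hlift
  set b := Module.finBasis k (∀ i, Fin (e i) → F' i) with hb
  set yl := fun l => Y (b l) with hyl
  have hvX : ∀ i, Valued.v (θ i (var F)) = exp (-(e i : ℤ)) := fun i => by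
    rw [hθ, val_var, ← exp_nsmul]; simp
  have hX0 : ∀ i, θ i (var F) ≠ 0 := fun i => (map_ne_zero (θ i)).2 var_ne_zero
  refine ⟨_, yl, fun l i => (hY _ i).1, fun g hg => ?_⟩
  let r : ∀ i, Fin (e i) → F' i := fun i m => (g i).coeff (m : ℕ)
  let d := fun i => g i - ∑ l, HahnSeries.C (algebraMap k (F' i) (b.repr r l)) * ψ i (yl l)
  have hd1 : ∀ i, Valued.v (d i) ≤ 1 := fun i => (Valued.v.map_sub _ _).trans (max_le (hg i)
    (Valued.v.map_sum_le fun l _ => by
      rw [map_mul]; exact mul_le_one' (val_C_le _) (hY _ i).1))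
  have hd : ∀ i, Valued.v (d i) ≤ exp (-(e i : ℤ)) := fun i => by
    refine (val_le_iff _).2 fun n hn => ?_
    rcases lt_or_ge n 0 with h | h
    · exact (val_le_iff 0).1 (by simpa using hd1 i) n h
    · obtain ⟨m, rfl⟩ := Int.eq_ofNat_of_zero_le h
      have hr := congrFun (congrFun (b.sum_repr r) i) ⟨m, by exact_mod_cast hn⟩
      simp only [Finset.sum_apply, Pi.smul_apply] at hr
      simp only [d, HahnSeries.coeff_sub, HahnSeries.coeff_sum, sub_eq_zero]
      refine hr.symm.trans (Finset.sum_congr rfl fun l _ => ?_)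
      rw [Algebra.smul_def, HahnSeries.C_mul_eq_smul, HahnSeries.coeff_smul, smul_eq_mul]
      exact congrArg _ ((hY (b l) i).2 ⟨m, by exact_mod_cast hn⟩).symm
  refine ⟨b.repr r, fun i => d i / θ i (var F), fun i => ?_, fun i => ?_⟩
  · rw [map_div₀, hvX, div_le_one₀ exp_pos]; exact hd i
  · rw [mul_div_cancel₀ _ (hX0 i)]; simp [d]

include hψ he hθ hθC hθφ in
/-- The completions are spanned by the field. -/
theorem span_top [∀ i, FiniteDimensional k (F' i)]
    (happ : ∀ (a : ι → K') (m : ι → ℤ), ∃ y : K', ∀ i, w i (y - a i) ≤ exp (m i))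
    {J : Type*} [Fintype J] (β : Module.Basis J K K') :
    ⊤ ≤ Submodule.span (LaurentSeries F) (Set.range fun j => Psi θ ψ (β j)) := by
  set M := Submodule.span (LaurentSeries F) (Set.range fun j => Psi θ ψ (β j)) with hM
  have hmem : ∀ y, Psi θ ψ y ∈ M := fun y => by
    rw [← β.sum_repr y, Psi_sum_smul hθφ]
    exact Submodule.sum_mem _ fun j _ => Submodule.smul_mem _ _ (Submodule.subset_span ⟨j, rfl⟩)
  obtain ⟨n, yl, hy1, hstep⟩ := exists_step hψ he hθ hθC happ
  intro g _
  let g₀ : ∀ i, LaurentSeries (F' i) := fun i => g i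
  obtain ⟨N, hN⟩ : ∃ N : ℕ, ∀ i, Valued.v (g₀ i) ≤ exp (N : ℤ) := by
    refine ⟨Finset.univ.sup fun i => (log (Valued.v (g₀ i))).toNat, fun i => ?_⟩
    rcases eq_or_ne (Valued.v (g₀ i)) 0 with h | h
    · rw [h]; exact zero_le
    · rw [← exp_log h, exp_le_exp]
      have h1 : (log (Valued.v (g₀ i))).toNat ≤ Finset.univ.sup fun i => (log (Valued.v (g₀ i))).toNat :=
        Finset.le_sup (f := fun i => (log (Valued.v (g₀ i))).toNat) (Finset.mem_univ i)
      exact (Int.self_le_toNat _).trans (Int.ofNat_le.2 h1)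
  obtain ⟨s, hs⟩ := eq_sum_of_step hθ hθC he (fun l i => ψ i (yl l)) hy1 hstep
    (fun i => θ i (var F ^ N) * g₀ i) fun i => by
      rw [map_mul, hθ, val_var_pow, ← exp_nsmul]
      refine (mul_le_mul' le_rfl (hN i)).trans ?_
      rw [← exp_add, ← exp_zero, exp_le_exp, nsmul_eq_mul]
      have : (N : ℤ) ≤ e i * (N : ℤ) := le_mul_of_one_le_left (Int.natCast_nonneg N) (by have := he i; omega)
      linarith
  have hX : (var F ^ N : LaurentSeries F) ≠ 0 := pow_ne_zero _ var_ne_zero
  have heq : g = ∑ l, ((var F ^ N)⁻¹ * s l) • Psi θ ψ (yl l) := by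
    funext i
    rw [Finset.sum_apply]
    refine mul_left_cancel₀ (b := (g i)) ((map_ne_zero (θ i)).2 hX) ?_
    refine (hs i).trans ?_
    refine Eq.trans ?_ (Finset.mul_sum (s := Finset.univ) (a := θ i (var F ^ N))
      (f := fun l => θ i ((var F ^ N)⁻¹ * s l) * ψ i (yl l))).symm
    refine Finset.sum_congr rfl fun l _ => ?_
    rw [map_mul, ← mul_assoc, ← mul_assoc, ← map_mul, mul_inv_cancel₀ hX, map_one, one_mul]
  rw [heq]
  exact Submodule.sum_mem _ fun l _ => Submodule.smul_mem _ _ (hmem _)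

include hθφ in
/-- The trace of the field is the sum of traces of completions. -/
theorem sum_tr_eq [∀ i, Module.Finite (LaurentSeries F) (Tgt (θ i))] {J : Type*} [Fintype J]
    (β : Module.Basis J K K') (hli : LinearIndependent (LaurentSeries F) fun j => Psi θ ψ (β j))
    (hsp : ⊤ ≤ Submodule.span (LaurentSeries F) (Set.range fun j => Psi θ ψ (β j))) (y : K') :
    ∑ i, tr (θ i) (ψ i y) = φ (Algebra.trace K K' y) := by
  classical
  rw [sum_tr θ (fun i => ψ i y)]
  change Algebra.trace (LaurentSeries F) (∀ i, Tgt (θ i)) (Psi θ ψ y) = _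
  set B := Module.Basis.mk hli hsp with hB
  rw [Algebra.trace_eq_matrix_trace B, Algebra.trace_eq_matrix_trace β, Matrix.trace, Matrix.trace, map_sum]
  refine Finset.sum_congr rfl fun j _ => ?_
  rw [Matrix.diag_apply, Matrix.diag_apply, Algebra.leftMulMatrix_eq_repr_mul, Algebra.leftMulMatrix_eq_repr_mul]
  have h : Psi θ ψ y * B j = ∑ l, φ (β.repr (y * β j) l) • B l := by
    rw [hB, Module.Basis.mk_apply]
    simp only [Module.Basis.mk_apply]
    rw [← Psi_sum_smul hθφ, β.sum_repr]
    funext i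
    exact (map_mul (ψ i) y (β j)).symm
  rw [h, Module.Basis.repr_sum_self]

end Groth.Agent.H23Res
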