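import Mathlib
import Groth.Agent.H23Res.Residue
import Groth.Agent.H23Ext.OverFF

/-!
Expansions of a rational function field at the zero of an irreducible polynomial and at infinity.
-/

set_option autoImplicit false
set_option linter.unusedSectionVars false
set_option linter.style.haveILetI false

universe u v

namespace Groth.Agent.H23Res

open WithZero Polynomial IntermediateField

variable {k : Type u} {K : Type v} [Field k] [Field K] [Algebra k K] {z : K} (hz : Transcendental k z)


/-- An expansion with a uniformizer defines a place. -/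
theorem exists_place_of_expansion {L : Type*} [Field L] [Algebra k L] {F : Type*} [Field F] [Algebra k F]
    (φ : L →ₐ[k] LaurentSeries F) (hsurj : ∀ a : F, ∃ f : L, Valued.v (φ f) ≤ 1 ∧ (φ f).coeff 0 = a)
    (ht : ∃ t : L, Valued.v (φ t) = exp (-1)) :
    ∃ R : FunFld.Place k L, LocRes.IsExpansionAt R.1 φ := by
  refine ⟨⟨(Valued.v : Valuation (LaurentSeries F) _).comap φ.toRingHom, fun c => ?_, fun γ => ?_⟩,
    fun _ => rfl, hsurj, ht⟩
  · change Valued.v (φ (algebraMap k L c)) ≤ 1
    rw [LocRes.map_algebraMap]; exact val_C_le _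
  · obtain ⟨t, ht⟩ := ht
    rcases eq_or_ne γ 0 with rfl | hγ
    · exact ⟨0, map_zero _⟩
    · refine ⟨t ^ (-log γ), ?_⟩
      change Valued.v (φ (t ^ (-log γ))) = γ
      rw [map_zpow₀, map_zpow₀, ht, ← exp_zsmul]
      simp [exp_log hγ]

include hz in
/-- A transcendental series gives a map of the rational function field. -/
theorem exists_hom {F : Type*} [Field F] [Algebra k F] (β : LaurentSeries F)
    (hβ : ∀ p : k[X], p ≠ 0 → aeval β p ≠ 0) : ∃ ε : ↥(IntermediateField.adjoin k ({z} : Set K)) →ₐ[k] LaurentSeries F, ε (AdjoinSimple.gen k z) = β := by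
  let ι₀ : RatFunc k →ₐ[k] LaurentSeries F := IsLocalization.liftAlgHom (M := nonZeroDivisors k[X]) (f := aeval β)
    fun p => isUnit_iff_ne_zero.2 (hβ p (nonZeroDivisors.ne_zero p.2))
  let eE := RatFunc.algEquivOfTranscendental z hz
  refine ⟨ι₀.comp eE.symm.toAlgHom, ?_⟩
  have h1 : eE (algebraMap k[X] (RatFunc k) X) = (AdjoinSimple.gen k z) := by
    rw [RatFunc.algEquivOfTranscendental_algebraMap, aeval_X]
  change ι₀ (eE.symm (AdjoinSimple.gen k z)) = β
  rw [← h1, AlgEquiv.symm_apply_apply, IsLocalization.liftAlgHom_apply, IsLocalization.lift_eq]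
  exact aeval_X β

theorem coe_aeval_gen (q : k[X]) : ((aeval (AdjoinSimple.gen k z) q : ↥(IntermediateField.adjoin k ({z} : Set K))) : K) = aeval z q :=
  (aeval_algHom_apply (IntermediateField.adjoin k ({z} : Set K)).val (AdjoinSimple.gen k z) q).symm

include hz in
theorem aeval_gen_ne_zero {q : k[X]} (hq : q ≠ 0) : aeval (AdjoinSimple.gen k z) q ≠ 0 := fun h =>
  hz ⟨q, hq, by rw [← coe_aeval_gen, h]; rfl⟩

theorem exists_frac (f : ↥(IntermediateField.adjoin k ({z} : Set K))) : ∃ a b : k[X], b ≠ 0 ∧ f = aeval (AdjoinSimple.gen k z) a / aeval (AdjoinSimple.gen k z) b := by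
  rcases eq_or_ne f 0 with rfl | hf
  · exact ⟨0, 1, one_ne_zero, by simp⟩
  obtain ⟨a, b, hab⟩ := (mem_adjoin_simple_iff k (f : K)).1 f.2
  refine ⟨a, b, fun h => hf (Subtype.ext (by simpa [h] using hab)), Subtype.ext ?_⟩
  change (f : K) = (IntermediateField.adjoin k ({z} : Set K)).val (aeval (AdjoinSimple.gen k z) a / aeval (AdjoinSimple.gen k z) b)
  rw [map_div₀, ← aeval_algHom_apply, ← aeval_algHom_apply]
  exact hab

include hz in
theorem isFF_adjoin : Groth.Agent.H23Ext.IsFF k ↥(IntermediateField.adjoin k ({z} : Set K)) := by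
  refine ⟨(AdjoinSimple.gen k z), fun h => hz ((isAlgebraic_algebraMap_iff (algebraMap ↥(IntermediateField.adjoin k ({z} : Set K)) K).injective).2 h), ?_⟩
  have htop : IntermediateField.adjoin k ({(AdjoinSimple.gen k z)} : Set ↥(IntermediateField.adjoin k ({z} : Set K))) = ⊤ := eq_top_iff.2 fun f _ => by
    obtain ⟨a, b, -, rfl⟩ := exists_frac f
    have h : ∀ q : k[X], aeval (AdjoinSimple.gen k z) q ∈ IntermediateField.adjoin k ({(AdjoinSimple.gen k z)} : Set ↥(IntermediateField.adjoin k ({z} : Set K))) := fun q =>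
      (IntermediateField.algebra_adjoin_le_adjoin k _) (aeval_mem_adjoin_singleton k (AdjoinSimple.gen k z))
    exact div_mem (h a) (h b)
  rw [htop]
  exact Module.Finite.of_surjective (Algebra.linearMap (⊤ : IntermediateField k ↥(IntermediateField.adjoin k ({z} : Set K))) ↥(IntermediateField.adjoin k ({z} : Set K))) fun f => ⟨⟨f, mem_top⟩, rfl⟩

theorem coeff_zero_aeval {F : Type*} [Field F] [Algebra k F] {x : LaurentSeries F} (hx : Valued.v x ≤ 1) (q : k[X]) :
    Valued.v (aeval x q) ≤ 1 ∧ (aeval x q).coeff 0 = aeval (x.coeff 0) q := by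
  induction q using Polynomial.induction_on with
  | C a =>
    rw [aeval_C, aeval_C, algebraMap_laurent]
    exact ⟨val_C_le _, by simp⟩
  | add p q hp hq =>
    rw [map_add (aeval x), map_add (aeval (x.coeff 0)), HahnSeries.coeff_add, hp.2, hq.2]
    exact ⟨(Valued.v.map_add _ _).trans (max_le hp.1 hq.1), rfl⟩
  | monomial n a hn =>
    rw [pow_succ, ← mul_assoc, map_mul (aeval x), map_mul (aeval (x.coeff 0)), aeval_X, aeval_X,
      coeff_zero_mul hn.1 hx, hn.2, map_mul]
    exact ⟨mul_le_one' hn.1 hx, rfl⟩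

include hz in
/-- The expansion at the zero of an irreducible separable polynomial. -/
theorem exists_finite_exp {p : k[X]} [Fact (Irreducible p)] (hsep : p.Separable) :
    ∃ (R : FunFld.Place k ↥(IntermediateField.adjoin k ({z} : Set K))) (ε : ↥(IntermediateField.adjoin k ({z} : Set K)) →ₐ[k] LaurentSeries (AdjoinRoot p)),
      LocRes.IsExpansionAt R.1 ε ∧ R.1 (AdjoinSimple.gen k z) ≤ 1 ∧ R.1 (aeval (AdjoinSimple.gen k z) p) = exp (-1) ∧
      LocRes.D (AdjoinRoot p) (ε (AdjoinSimple.gen k z)) = 1 ∧ (ε (AdjoinSimple.gen k z)).coeff 0 = AdjoinRoot.root p := by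
  have hp : Irreducible p := Fact.out
  set F := AdjoinRoot p
  set α : F := AdjoinRoot.root p
  set β : LaurentSeries F := HahnSeries.C α + var F with hβdef
  have hvar1 : Valued.v (var F) ≤ 1 := by rw [val_var, ← exp_zero, exp_le_exp]; norm_num
  have hβ1 : Valued.v β ≤ 1 := (Valued.v.map_add _ _).trans (max_le (val_C_le α) hvar1)
  have hβ0 : β.coeff 0 = α := by simp [hβdef, var]
  have hpe : ∀ q : k[X], Valued.v (aeval β q) ≤ 1 ∧ (aeval β q).coeff 0 = aeval α q := fun q =>
    hβ0 ▸ coeff_zero_aeval hβ1 q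
  have hDβ : LocRes.D F β = 1 := by rw [hβdef, map_add, D_C, D_var, zero_add]
  have hder : ∀ q : k[X], LocRes.D F (aeval β q) = aeval β (derivative q) := by
    intro q
    induction q using Polynomial.induction_on with
    | C a => rw [aeval_C, algebraMap_laurent, D_C, derivative_C, map_zero]
    | add p q hp hq => rw [map_add, map_add, derivative_add, map_add, hp, hq]
    | monomial n a hn =>
      rw [pow_succ, ← mul_assoc, map_mul (aeval β), aeval_X, Derivation.leibniz, hDβ, hn,
        derivative_mul (f := C a * X ^ n), derivative_X, mul_one, map_add, map_mul (aeval β) (derivative _),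
        aeval_X, smul_eq_mul, smul_eq_mul, mul_one]
      ring
  have hpα : aeval α p = 0 := by rw [AdjoinRoot.aeval_eq, AdjoinRoot.mk_self]
  have hd : aeval α (derivative p) ≠ 0 := hsep.aeval_derivative_ne_zero hpα
  have hvp : Valued.v (aeval β p) = exp (-1) := by
    refine le_antisymm (val_le_of_coeff_zero (hpe p).1 (by rw [(hpe p).2, hpα])) (not_lt.1 fun hlt => hd ?_)
    rw [← (hpe (derivative p)).2, ← hder]
    have h2 : Valued.v (aeval β p) ≤ exp (-(2 : ℤ)) := by
      rcases eq_or_ne (Valued.v (aeval β p)) 0 with h | h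
      · rw [h]; exact zero_le
      · rw [← exp_log h, exp_lt_exp] at hlt
        rw [← exp_log h, exp_le_exp]; omega
    exact (val_le_iff _).1 (val_D_le h2) 0 (by norm_num)
  have htr : ∀ q : k[X], q ≠ 0 → aeval β q ≠ 0 := by
    intro q hq h0
    obtain ⟨m, r, hr, rfl⟩ := WfDvdMonoid.max_power_factor hq hp
    rw [map_mul, map_pow, mul_eq_zero] at h0
    rcases h0 with h0 | h0
    · exact exp_ne_zero (hvp.symm.trans (by rw [eq_zero_of_pow_eq_zero h0, map_zero]))
    · refine hr ?_
      rw [← AdjoinRoot.mk_eq_zero, ← AdjoinRoot.aeval_eq, ← (hpe r).2, h0, HahnSeries.coeff_zero]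
  obtain ⟨ε, hε⟩ := exists_hom hz β htr
  have hεq : ∀ q : k[X], ε (aeval (AdjoinSimple.gen k z) q) = aeval β q := fun q => by rw [← aeval_algHom_apply, hε]
  obtain ⟨R, hR⟩ := exists_place_of_expansion ε (fun a => by
    obtain ⟨q, rfl⟩ := AdjoinRoot.mk_surjective a
    exact ⟨aeval (AdjoinSimple.gen k z) q, by rw [hεq]; exact (hpe q).1, by rw [hεq, (hpe q).2, AdjoinRoot.aeval_eq]⟩)
    ⟨aeval (AdjoinSimple.gen k z) p, by rw [hεq]; exact hvp⟩
  exact ⟨R, ε, hR, by rw [← hR.1, hε]; exact hβ1, by rw [← hR.1, hεq]; exact hvp, by rw [hε]; exact hDβ,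
    by rw [hε, hβ0]⟩

theorem val_aeval_of_one_lt {L : Type*} [Field L] [Algebra k L] (w : Valuation L (WithZero (Multiplicative ℤ)))
    (hw : ∀ c : k, c ≠ 0 → w (algebraMap k L c) = 1) {x : L} (hx : 1 < w x) {q : k[X]} (hq : q ≠ 0) :
    w (aeval x q) = w x ^ q.natDegree := by
  classical
  have hd : w (algebraMap k L (q.coeff q.natDegree) * x ^ q.natDegree) = w x ^ q.natDegree := by
    rw [map_mul, map_pow, coeff_natDegree, hw _ (leadingCoeff_ne_zero.2 hq), one_mul]
  rw [aeval_eq_sum_range]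
  simp only [Algebra.smul_def]
  refine (Valuation.map_sum_eq_of_lt w (j := q.natDegree) (by simp) fun i hi => ?_).trans hd
  rw [hd, map_mul, map_pow]
  have hid : i < q.natDegree := by
    simp only [Finset.mem_sdiff, Finset.mem_range, Finset.mem_singleton] at hi; omega
  refine lt_of_le_of_lt (mul_le_of_le_one_left zero_le ?_) (pow_lt_pow_right₀ hx hid)
  rcases eq_or_ne (q.coeff i) 0 with h | h
  · rw [h, map_zero, map_zero]; exact zero_le
  · exact (hw _ h).le

include hz in
/-- The expansion at infinity, and the places over it. -/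
theorem exists_inf_exp : ∃ (R : FunFld.Place k (IntermediateField.adjoin k ({z} : Set K)))
    (ε : IntermediateField.adjoin k ({z} : Set K) →ₐ[k] LaurentSeries k),
    LocRes.IsExpansionAt R.1 ε ∧ ε (AdjoinSimple.gen k z) = (var k)⁻¹ ∧
      ∀ (L : Type v) [Field L] [Algebra k L] [Algebra (IntermediateField.adjoin k ({z} : Set K)) L]
        [IsScalarTower k (IntermediateField.adjoin k ({z} : Set K)) L]
        [FiniteDimensional (IntermediateField.adjoin k ({z} : Set K)) L] (P : FunFld.Place k L),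
        FunFld.IsOver P R ↔ 1 < P.1 (algebraMap (IntermediateField.adjoin k ({z} : Set K)) L (AdjoinSimple.gen k z)) := by
  set β : LaurentSeries k := (var k)⁻¹ with hβdef
  have hβ : 1 < Valued.v β := by
    rw [hβdef, map_inv₀, val_var, ← exp_neg, neg_neg, ← exp_zero, exp_lt_exp]; norm_num
  have hconst : ∀ c : k, c ≠ 0 → Valued.v (algebraMap k (LaurentSeries k) c) = 1 := fun c hc => by
    rw [algebraMap_laurent, Algebra.algebraMap_self_apply]; exact val_C hc
  obtain ⟨ε, hε⟩ := exists_hom hz β fun q hq h0 => by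
    have h := val_aeval_of_one_lt Valued.v hconst hβ hq
    rw [h0, map_zero] at h
    exact pow_ne_zero _ (ne_zero_of_lt hβ) h.symm
  have hεq : ∀ q : k[X], ε (aeval (AdjoinSimple.gen k z) q) = aeval β q := fun q => by rw [← aeval_algHom_apply, hε]
  obtain ⟨R, hR⟩ := exists_place_of_expansion ε (fun a => ⟨algebraMap k _ a, by
      rw [LocRes.map_algebraMap]; exact val_C_le _, by rw [LocRes.map_algebraMap]; simp⟩)
    ⟨(AdjoinSimple.gen k z)⁻¹, by rw [map_inv₀, hε, hβdef, inv_inv]; exact val_var⟩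
  refine ⟨R, ε, hR, hε, fun L _ _ _ _ _ P => ⟨?_, fun hP => ?_⟩⟩
  · rintro ⟨e, he⟩
    rw [he, ← hR.1, hε]
    exact one_lt_pow₀ hβ (Groth.Agent.H23Ext.IsOverWith.pos he).ne'
  · set x := algebraMap (IntermediateField.adjoin k ({z} : Set K)) L (AdjoinSimple.gen k z)
    have hpos : 0 < log (P.1 x) := exp_lt_exp.1 (by rw [exp_zero, exp_log (ne_zero_of_lt hP)]; exact hP)
    refine ⟨(log (P.1 x)).toNat, fun f => ?_⟩
    obtain ⟨a, b, hb, rfl⟩ := exists_frac f
    rcases eq_or_ne a 0 with rfl | ha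
    · simp [zero_pow (show (log (P.1 x)).toNat ≠ 0 by omega)]
    have hP' : ∀ c : k, c ≠ 0 → P.1 (algebraMap k L c) = 1 := fun c hc => Groth.Agent.H23FunFld.val_const P hc
    have hlog : P.1 x = exp ((log (P.1 x)).toNat : ℤ) := by
      rw [Int.toNat_of_nonneg hpos.le, exp_log (ne_zero_of_lt hP)]
    rw [map_div₀, map_div₀, ← hR.1, map_div₀, map_div₀, hεq, hεq, ← aeval_algebraMap_apply, ← aeval_algebraMap_apply,
      val_aeval_of_one_lt P.1 hP' hP ha, val_aeval_of_one_lt P.1 hP' hP hb,
      val_aeval_of_one_lt Valued.v hconst hβ ha, val_aeval_of_one_lt Valued.v hconst hβ hb]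
    conv_lhs => rw [hlog]
    rw [hβdef, map_inv₀, val_var, ← exp_neg, neg_neg, ← exp_nsmul, ← exp_nsmul, ← exp_nsmul, ← exp_nsmul,
      ← exp_sub, ← exp_sub, ← exp_nsmul]
    congr 1
    simp only [nsmul_eq_mul]
    ring

end Groth.Agent.H23Res
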