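import Mathlib
import Groth.Agent.H23Res.Global

/-!
Residues and traces in a finite extension.
-/

set_option autoImplicit false
set_option linter.unusedSectionVars false
set_option linter.style.haveILetI false

namespace Groth.Agent.H23Res

open WithZero

variable {k F K K' : Type*} [Field k] [Field F] [Algebra k F] [Field K] [Field K'] [Algebra k K] [Algebra k K']
  [Algebra K K'] [IsScalarTower k K K'] [FiniteDimensional K K'] [FiniteDimensional k F]
  {v : Valuation K (WithZero (Multiplicative ℤ))} {φ : K →ₐ[k] LaurentSeries F}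
  {ι : Type*} [Fintype ι] {F' : ι → Type*} [∀ i, Field (F' i)] [∀ i, Algebra k (F' i)] [∀ i, FiniteDimensional k (F' i)]
  {w : ι → Valuation K' (WithZero (Multiplicative ℤ))} {ψ : ∀ i, K' →ₐ[k] LaurentSeries (F' i)}
  {θ : ∀ i, LaurentSeries F →+* LaurentSeries (F' i)} {e : ι → ℕ} {c : ∀ i, F →ₐ[k] F' i}
  (hψ : ∀ i, LocRes.IsExpansionAt (w i) (ψ i)) (he : ∀ i, 0 < e i)
  (hθ : ∀ i a, Valued.v (θ i a) = Valued.v a ^ e i)
  (hθC : ∀ i x, θ i (HahnSeries.C x) = HahnSeries.C (c i x))
  (hθφ : ∀ i a, θ i (φ a) = ψ i (algebraMap K K' a))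
  (happ : ∀ (a : ι → K') (m : ι → ℤ), ∃ y : K', ∀ i, w i (y - a i) ≤ exp (m i))

include hθ hθC he in
theorem finrank_tgt' (i : ι) :
    Module.Finite (LaurentSeries F) (Tgt (θ i)) ∧
      Module.finrank (LaurentSeries F) (Tgt (θ i)) * Module.finrank k F = e i * Module.finrank k (F' i) := by
  letI : Algebra F (F' i) := (c i).toRingHom.toAlgebra
  haveI : IsScalarTower k F (F' i) := IsScalarTower.of_algebraMap_eq fun r => ((c i).commutes r).symm
  haveI : FiniteDimensional F (F' i) := Module.Finite.of_restrictScalars_finite k F (F' i)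
  obtain ⟨h1, h2⟩ := finrank_tgt (he i) (hθ i) (hθC i)
  refine ⟨h1, ?_⟩
  rw [h2, mul_assoc, mul_comm (Module.finrank F (F' i)), Module.finrank_mul_finrank]

include hψ he hθ hθC hθφ happ in
/-- The residue formula, given independence. -/
theorem trace_formula_of_li {J : Type*} [Fintype J] (β : Module.Basis J K K')
    (hli : LinearIndependent (LaurentSeries F) fun j => Psi θ ψ (β j)) (y : K') (x : K) :
    LocRes.locRes φ (Algebra.trace K K' y) x = ∑ i, LocRes.locRes (ψ i) y (algebraMap K K' x) := by
  haveI := fun i => (finrank_tgt' he hθ hθC i).1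
  have hsum := sum_tr_eq hθφ β hli (span_top hψ he hθ hθC hθφ happ β) y
  simp only [LocRes.locRes, LocRes.resExp]
  rw [← hsum, Finset.sum_mul, map_sum (LocRes.res F), map_sum]
  refine Finset.sum_congr rfl fun i _ => ?_
  letI : Algebra F (F' i) := (c i).toRingHom.toAlgebra
  haveI : IsScalarTower k F (F' i) := IsScalarTower.of_algebraMap_eq fun r => ((c i).commutes r).symm
  haveI : FiniteDimensional F (F' i) := Module.Finite.of_restrictScalars_finite k F (F' i)
  rw [← hθφ i x, ← Algebra.trace_trace (R := k) (S := F) (T := F' i)]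
  exact congrArg _ (trace_res (he i) (hθ i) (hθC i) (φ x) (ψ i y)).symm

include hψ he hθ hθC hθφ happ in
/-- The residue formula, given the degree relation. -/
theorem trace_formula_of_dim
    (hdim : ∑ i, e i * Module.finrank k (F' i) = Module.finrank K K' * Module.finrank k F) (y : K') (x : K) :
    LocRes.locRes φ (Algebra.trace K K' y) x = ∑ i, LocRes.locRes (ψ i) y (algebraMap K K' x) := by
  haveI := fun i => (finrank_tgt' he hθ hθC i).1
  refine trace_formula_of_li hψ he hθ hθC hθφ happ (Module.finBasis K K') ?_ y x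
  refine linearIndependent_of_top_le_span_of_card_eq_finrank (span_top hψ he hθ hθC hθφ happ _) ?_
  rw [Module.finrank_pi_fintype, Fintype.card_fin]
  refine Nat.eq_of_mul_eq_mul_right (Module.finrank_pos (R := k) (M := F)) ?_
  rw [Finset.sum_mul, Finset.sum_congr rfl fun i _ => (finrank_tgt' he hθ hθC i).2, hdim]

end Groth.Agent.H23Res
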