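import Mathlib
import Groth.Agent.H23Res.TraceFormula
import Groth.Agent.H23Res.RatExp
import Groth.Agent.H23Diff.Expansion
import Groth.Agent.H23Diff.Local
import Groth.Agent.H23Geom.Separating

/-!
The residue theorem.
-/

set_option autoImplicit false
set_option linter.unusedSectionVars false
set_option linter.style.haveILetI false

universe u v w

namespace Groth.Agent.H23Res

open WithZero Polynomial IntermediateField

section Formula

variable {k K K' : Type*} [Field k] [Field K] [Field K'] [Algebra k K] [Algebra K K'] [Algebra k K']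
  [IsScalarTower k K K'] [FiniteDimensional K K'] {F : Type*} [Field F] [Algebra k F] [FiniteDimensional k F]
  [Algebra.IsSeparable k F]

/-- The trace formula at a place. -/
theorem trace_formula_place (hK : Groth.Agent.H23Ext.IsFF k K) {P : FunFld.Place k K}
    {φ : K →ₐ[k] LaurentSeries F} (hφ : LocRes.IsExpansionAt P.1 φ) (Qs : Finset (FunFld.Place k K'))
    (hQs : ∀ Q, Q ∈ Qs ↔ FunFld.IsOver Q P)
    {F' : FunFld.Place k K' → Type*} [∀ Q, Field (F' Q)] [∀ Q, Algebra k (F' Q)] [∀ Q, FiniteDimensional k (F' Q)]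
    {ψ : ∀ Q, K' →ₐ[k] LaurentSeries (F' Q)} (hψ : ∀ Q ∈ Qs, LocRes.IsExpansionAt Q.1 (ψ Q)) (y : K') (x : K) :
    LocRes.locRes φ (Algebra.trace K K' y) x = ∑ Q ∈ Qs, LocRes.locRes (ψ Q) y (algebraMap K K' x) := by
  classical
  choose e he using fun Q : {Q // Q ∈ Qs} => (hQs Q.1).1 Q.2
  have hvw : ∀ (Q : {Q // Q ∈ Qs}) a, Q.1.1 (algebraMap K K' a) = P.1 a ^ e Q := fun Q a => he Q a
  have hpos : ∀ Q, 0 < e Q := fun Q => Groth.Agent.H23Ext.IsOverWith.pos (he Q)
  choose θ c hθ hθC hθφ using fun Q : {Q // Q ∈ Qs} =>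
    exists_embed hφ (hψ Q.1 Q.2) (hpos Q) (hvw Q)
  rw [← Finset.sum_coe_sort Qs (fun Q => LocRes.locRes (ψ Q) y (algebraMap K K' x))]
  refine trace_formula_of_dim (w := fun Q : {Q // Q ∈ Qs} => Q.1.1) (fun Q => hψ Q.1 Q.2) hpos hθ hθC hθφ
    (fun a m => ?_) ?_ y x
  · obtain ⟨z, hz⟩ := Groth.Agent.H23FunFld.approximation Qs (fun Q => if h : Q ∈ Qs then a ⟨Q, h⟩ else 0)
      (fun Q => if h : Q ∈ Qs then m ⟨Q, h⟩ else 0)
    refine ⟨z, fun Q => ?_⟩
    have h := hz Q.1 Q.2
    simpa [Q.2] using h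
  · have h := Groth.Agent.H23Ext.sum_ramIdx_mul_deg' hK P Qs hQs
    rw [deg_eq_finrank hφ, ← Finset.sum_coe_sort Qs] at h
    rw [← h]
    refine Finset.sum_congr rfl fun Q _ => ?_
    rw [Groth.Agent.H23Ext.ramIdx_eq (he Q), deg_eq_finrank (hψ Q.1 Q.2)]

end Formula

section Change

variable {k K F : Type*} [Field k] [Field K] [Algebra k K] [Field F] [Algebra k F]

theorem locRes_change (φ : K →ₐ[k] LaurentSeries F) {v z c : K}
    (h : KaehlerDifferential.D k K v = c • KaehlerDifferential.D k K z) (a : K) :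
    LocRes.locRes φ a v = LocRes.locRes φ (a * c) z := by
  rw [LocRes.locRes, LocRes.locRes, ← LocRes.resOmega_smul_D, ← LocRes.resOmega_smul_D, h, smul_smul]

theorem locRes_eq_zero_of_le (φ : K →ₐ[k] LaurentSeries F) {a v : K} (ha : Valued.v (φ a) ≤ 1)
    (hv : Valued.v (φ v) ≤ 1) : LocRes.locRes φ a v = 0 := by
  rw [LocRes.locRes, LocRes.resExp, res_eq_zero, map_zero]
  rw [map_mul]
  exact mul_le_one' ha (val_D_le_one hv)

theorem res_C_mul' (c : F) (y : LaurentSeries F) :
    LocRes.res F (HahnSeries.C c * y) = c * LocRes.res F y := by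
  change (HahnSeries.C c * y).coeff (-1) = c * y.coeff (-1)
  rw [HahnSeries.C_mul_eq_smul, HahnSeries.coeff_smul, smul_eq_mul]

end Change

variable {k : Type u} {K : Type v} [Field k] [Field K] [Algebra k K] (hK : FunFld.IsFunctionField k K)
  {F : FunFld.Place k K → Type w} [∀ P, Field (F P)] [∀ P, Algebra k (F P)] [∀ P, FiniteDimensional k (F P)]
  [∀ P, Algebra.IsSeparable k (F P)]
  {φ : ∀ P, K →ₐ[k] LaurentSeries (F P)} (hφ : ∀ P, LocRes.IsExpansionAt P.1 (φ P))
include hK hφ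

/-- A root of an irreducible polynomial in a separable residue field. -/
theorem exists_root {z : K} (hz : Transcendental k z) {p : k[X]} (hp : Irreducible p) :
    p.Separable ∧ ∃ (P : FunFld.Place k K) (β : F P), aeval β p = 0 := by
  have htr : Transcendental k (aeval z p) := hz.aeval_of_transcendental
    (Polynomial.transcendental p hp.natDegree_pos.ne'
      (mem_nonZeroDivisors_of_ne_zero (leadingCoeff_ne_zero.2 hp.ne_zero)))
  obtain ⟨P, hP⟩ := Groth.Agent.H23FunFld.exists_place_lt_one hK htr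
  have hpe : φ P (aeval z p) = aeval (φ P z) p := (aeval_algHom_apply _ _ _).symm
  have hzle : Valued.v (φ P z) ≤ 1 := by
    by_contra h
    rw [not_le] at h
    have h1 := val_aeval_of_one_lt Valued.v (fun c hc => by
      rw [algebraMap_laurent]; exact val_C ((_root_.map_ne_zero _).2 hc)) h hp.ne_zero
    rw [← hpe, (hφ P).1] at h1
    exact absurd (h1 ▸ hP) (not_lt.2 (one_le_pow₀ h.le))
  have hroot : aeval ((φ P z).coeff 0) p = 0 := by
    rw [← (coeff_zero_aeval hzle p).2, ← hpe]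
    refine (val_le_iff 1).1 ?_ 0 (by norm_num)
    rw [(hφ P).1]
    exact Groth.Agent.H23Diff.le_exp_neg_one' hP
  refine ⟨?_, P, _, hroot⟩
  have hdvd := minpoly.dvd k _ hroot
  have hass := (minpoly.irreducible (Algebra.IsIntegral.isIntegral ((φ P z).coeff 0))).associated_of_dvd hp hdvd
  have hs : (minpoly k ((φ P z).coeff 0)).Separable := Algebra.IsSeparable.isSeparable k ((φ P z).coeff 0)
  exact hs.of_dvd hass.symm.dvd

/-- Traces of regular differentials are regular away from infinity. -/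
theorem exists_poly {z : K} (hz : Transcendental k z)
    [FiniteDimensional (adjoin k ({z} : Set K)) K] {u v c : K}
    (hc : KaehlerDifferential.D k K v = c • KaehlerDifferential.D k K z)
    (hint : ∀ P : FunFld.Place k K, P.1 z ≤ 1 → P.1 u ≤ 1 ∧ P.1 v ≤ 1) :
    ∃ a : k[X], Algebra.trace (adjoin k ({z} : Set K)) K (u * c) = aeval (AdjoinSimple.gen k z) a := by
  classical
  set E := adjoin k ({z} : Set K)
  set g : E := AdjoinSimple.gen k z
  set r := Algebra.trace E K (u * c)
  have hFF : Groth.Agent.H23Ext.IsFF k E := isFF_adjoin hz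
  have key : ∀ (a b : k[X]) (p : k[X]), Irreducible p → p ∣ b → r * aeval g b = aeval g a → p ∣ a := by
    intro a b p hp hpb heq
    haveI : Fact (Irreducible p) := ⟨hp⟩
    obtain ⟨hsep, P₀, β, hβ⟩ := exists_root hK hφ hz hp
    haveI : FiniteDimensional k (AdjoinRoot p) := (AdjoinRoot.powerBasis hp.ne_zero).finite
    haveI : Algebra.IsSeparable k (AdjoinRoot p) :=
      Algebra.IsSeparable.of_algHom k (F P₀) (AdjoinRoot.liftAlgHom p (Algebra.ofId k (F P₀)) β hβ)
    obtain ⟨R, ε, hε, hRg, hRp, hD, hα⟩ := exists_finite_exp hz hsep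
    set α := AdjoinRoot.root p
    have hεq : ∀ q : k[X], Valued.v (ε (aeval g q)) ≤ 1 ∧ (ε (aeval g q)).coeff 0 = aeval α q := fun q => by
      rw [← aeval_algHom_apply, ← hα]
      exact coeff_zero_aeval ((hε.1 g).trans_le hRg) q
    let Qs := (Groth.Agent.H23Ext.finite_isOver' (K' := K) hFF R).toFinset
    have hQs : ∀ Q, Q ∈ Qs ↔ FunFld.IsOver Q R := fun Q => Set.Finite.mem_toFinset _
    have hzero : ∀ q : k[X], LocRes.locRes ε (aeval g q * r) g = 0 := by
      intro q
      have h1 : aeval g q * r = Algebra.trace E K (algebraMap E K (aeval g q) * (u * c)) := by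
        rw [← Algebra.smul_def, map_smul, smul_eq_mul]
      rw [h1, trace_formula_place hFF hε Qs hQs (fun Q _ => hφ Q)]
      refine Finset.sum_eq_zero fun Q hQ => ?_
      obtain ⟨e, he⟩ := (hQs Q).1 hQ
      have hQz : Q.1 z ≤ 1 := (he g).trans_le (pow_le_one₀ zero_le hRg)
      obtain ⟨hu, hv⟩ := hint Q hQz
      change LocRes.locRes (φ Q) _ z = 0
      rw [← mul_assoc, ← locRes_change (φ Q) hc]
      refine locRes_eq_zero_of_le _ ?_ (((hφ Q).1 v).trans_le hv)
      rw [(hφ Q).1, map_mul, he]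
      exact mul_le_one' (pow_le_one₀ zero_le ((hε.1 _).symm.trans_le (hεq q).1)) hu
    have hr : R.1 r ≤ 1 := by
      by_contra hlt
      rw [not_le] at hlt
      obtain ⟨m, hm, hrm⟩ : ∃ m : ℕ, 0 < m ∧ R.1 r = exp (m : ℤ) := by
        have hne := ne_zero_of_lt hlt
        have hpos : 0 < log (R.1 r) := exp_lt_exp.1 (by rw [exp_zero, exp_log hne]; exact hlt)
        exact ⟨(log (R.1 r)).toNat, by omega, by rw [Int.toNat_of_nonneg hpos.le, exp_log hne]⟩
      set w := ε r * ε (aeval g p) ^ (m - 1) with hw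
      have hwv : Valued.v w = exp (1 : ℤ) := by
        rw [hw, map_mul, map_pow, hε.1, hε.1, hrm, hRp, ← exp_nsmul, ← exp_add]
        congr 1
        simp; omega
      have hw1 : w.coeff (-1) ≠ 0 := fun h0 => by
        have h2 : Valued.v w ≤ exp (-(0 : ℤ)) := (val_le_iff 0).2 fun n hn => by
          rcases eq_or_ne n (-1) with rfl | hne
          · exact h0
          · exact (val_le_iff (-1)).1 (by rw [hwv, neg_neg]) n (by omega)
        rw [hwv, exp_le_exp] at h2; omega
      refine Algebra.trace_ne_zero k (AdjoinRoot p) (LinearMap.ext fun x => ?_)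
      obtain ⟨s, hs⟩ := AdjoinRoot.mk_surjective (x / w.coeff (-1))
      rw [LinearMap.zero_apply, ← hzero (s * p ^ (m - 1)), LocRes.locRes, LocRes.resExp, hD, mul_one,
        show ε (aeval g (s * p ^ (m - 1)) * r) = ε (aeval g s) * w by simp [hw]; ring]
      congr 1
      have hC : ε (aeval g s) = HahnSeries.C (aeval α s) + (ε (aeval g s) - HahnSeries.C (aeval α s)) := by ring
      have hh : Valued.v ((ε (aeval g s) - HahnSeries.C (aeval α s)) * w) ≤ 1 := by
        rw [map_mul, hwv]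
        refine (mul_le_mul' (val_le_of_coeff_zero ((Valued.v.map_sub _ _).trans (max_le (hεq s).1 (val_C_le _)))
          (by rw [HahnSeries.coeff_sub, (hεq s).2]; simp)) le_rfl).trans_eq ?_
        rw [← exp_add, neg_add_cancel, exp_zero]
      rw [hC, add_mul, map_add (LocRes.res _), res_eq_zero hh, add_zero, res_C_mul', AdjoinRoot.aeval_eq, hs,
        LocRes.res_apply, div_mul_cancel₀ _ hw1]
    have ha : Valued.v (ε (aeval g a)) < 1 := by
      rw [← heq, map_mul, map_mul, hε.1, hε.1]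
      obtain ⟨b', rfl⟩ := hpb
      rw [map_mul, map_mul, hRp]
      refine (mul_le_mul' hr (mul_le_mul' le_rfl ?_)).trans_lt (b := 1 * (exp (-1) * 1)) ?_
      · rw [← hε.1]; exact (hεq b').1
      · rw [one_mul, mul_one, ← exp_zero, exp_lt_exp]; norm_num
    rw [← AdjoinRoot.mk_eq_zero, ← AdjoinRoot.aeval_eq, ← (hεq a).2]
    exact (val_le_iff 1).1 (Groth.Agent.H23Diff.le_exp_neg_one' ha) 0 (by norm_num)
  obtain ⟨a, b, hb, hab⟩ := exists_frac r
  have heq : r * aeval g b = aeval g a := by rw [hab, div_mul_cancel₀ _ (aeval_gen_ne_zero hz hb)]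
  clear hab
  induction b using UniqueFactorizationMonoid.induction_on_prime generalizing a with
  | h₁ => exact absurd rfl hb
  | h₂ b hu' =>
    obtain ⟨d, hd, rfl⟩ := Polynomial.isUnit_iff.1 hu'
    refine ⟨C d⁻¹ * a, ?_⟩
    rw [map_mul (aeval g), ← heq, aeval_C, aeval_C, map_inv₀, mul_comm r, ← mul_assoc,
      inv_mul_cancel₀ ((_root_.map_ne_zero _).2 hd.ne_zero), one_mul]
  | h₃ b p hb0 hp ih =>
    obtain ⟨a', rfl⟩ := key a (p * b) p hp.irreducible (dvd_mul_right _ _) heq
    refine ih a' hb0 (mul_left_cancel₀ (aeval_gen_ne_zero hz hp.ne_zero) ?_)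
    rw [map_mul, map_mul] at heq
    rw [← heq]; ring

theorem residue_theorem (hg : FunFld.IsGeometric k K) (u v : K) :
    (Function.support fun P => LocRes.locRes (φ P) u v).Finite ∧ ∑ᶠ P, LocRes.locRes (φ P) u v = 0 := by
  classical
  obtain ⟨x, -, hsepx⟩ := Groth.Agent.H23Geom.exists_separating hK hg
  haveI := hsepx
  have hx : KaehlerDifferential.D k K x ≠ 0 := Groth.Agent.H23Geom.D_ne_zero hK
  obtain ⟨S₀, hS₀⟩ : ∃ S : Finset (FunFld.Place k K), ∀ P, P ∉ S → P.1 u ≤ 1 ∧ P.1 v ≤ 1 := by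
    refine ⟨((Groth.Agent.H23FunFld.finite_zeros hK u⁻¹).union (Groth.Agent.H23FunFld.finite_zeros hK v⁻¹)).toFinset,
      fun P hP => ?_⟩
    rw [Set.Finite.mem_toFinset, Set.mem_union, Set.mem_ofPred, Set.mem_ofPred, not_or,
      Groth.Agent.H23FunFld.ord_inv, Groth.Agent.H23FunFld.ord_inv] at hP
    have h : ∀ a : K, ¬ 0 < -P.ord a → P.1 a ≤ 1 := fun a ha => by
      rcases eq_or_ne a 0 with rfl | h0
      · simp
      · exact (Groth.Agent.H23FunFld.val_le_one_iff P h0).2 (by omega)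
    exact ⟨h u hP.1, h v hP.2⟩
  -- a separating element with poles where `u` and `v` have poles
  let M : FunFld.Place k K → ℤ := fun P => max 1 (log (P.1 x) + 1)
  choose a₀ _ ha₀ using fun P : FunFld.Place k K => Groth.Agent.H23FunFld.exists_val_eq P (M P)
  obtain ⟨z₀, hz₀⟩ := Groth.Agent.H23FunFld.approximation S₀ a₀ (fun _ => 0)
  have hM : ∀ P ∈ S₀, 1 < P.1 z₀ ∧ P.1 x < P.1 z₀ := by
    intro P hP
    have h1 : exp (1 : ℤ) ≤ P.1 (a₀ P) := by rw [ha₀, exp_le_exp]; exact le_max_left _ _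
    have h2 : P.1 z₀ = P.1 (a₀ P) := by
      rw [show z₀ = a₀ P + (z₀ - a₀ P) by ring]
      exact P.1.map_add_eq_of_lt_left ((hz₀ P hP).trans_lt (lt_of_lt_of_le (exp_lt_exp.2 one_pos) h1))
    rw [h2]
    refine ⟨lt_of_lt_of_le (by rw [← exp_zero, exp_lt_exp]; norm_num) h1, ?_⟩
    rcases eq_or_ne (P.1 x) 0 with h | h
    · rw [h, ha₀]; exact exp_pos
    · rw [← exp_log h, ha₀, exp_lt_exp]
      exact lt_of_lt_of_le (lt_add_one _) (le_max_right _ _)
  obtain ⟨z, hzD, hzS⟩ : ∃ z : K, KaehlerDifferential.D k K z ≠ 0 ∧ ∀ P ∈ S₀, 1 < P.1 z := by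
    by_cases h : KaehlerDifferential.D k K z₀ = 0
    · refine ⟨z₀ + x, by rw [map_add, h, zero_add]; exact hx, fun P hP => ?_⟩
      rw [P.1.map_add_eq_of_lt_left (hM P hP).2]; exact (hM P hP).1
    · exact ⟨z₀, h, fun P hP => (hM P hP).1⟩
  haveI := Groth.Agent.H23Geom.isSeparable_of_D_ne_zero hK hg hzD
  have hz : Transcendental k z := Groth.Agent.H23Geom.transcendental_of_isSeparable hK
  haveI := Groth.Agent.H23FunFld.finiteDimensional_adjoin hK hz
  obtain ⟨c, hc⟩ := Groth.Agent.H23Diff.exists_ratio hK hg hzD v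
  have hint : ∀ P : FunFld.Place k K, P.1 z ≤ 1 → P.1 u ≤ 1 ∧ P.1 v ≤ 1 := fun P hP =>
    hS₀ P fun h => (hzS P h).not_ge hP
  obtain ⟨a, ha⟩ := exists_poly hK hφ hz hc hint
  obtain ⟨R, ε, hε, hεg, hover⟩ := exists_inf_exp hz
  have hFF : Groth.Agent.H23Ext.IsFF k (adjoin k ({z} : Set K)) := isFF_adjoin hz
  let Qs := (Groth.Agent.H23Ext.finite_isOver' (K' := K) hFF R).toFinset
  have hQs : ∀ Q, Q ∈ Qs ↔ FunFld.IsOver Q R := fun Q => Set.Finite.mem_toFinset _
  have hsupp : Function.support (fun P => LocRes.locRes (φ P) u v) ⊆ ↑Qs := by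
    intro P hP
    by_contra h
    rw [Finset.mem_coe, hQs, hover K P] at h
    obtain ⟨hu, hv⟩ := hint P (not_lt.1 h)
    exact hP (locRes_eq_zero_of_le _ (((hφ P).1 u).trans_le hu) (((hφ P).1 v).trans_le hv))
  refine ⟨Qs.finite_toSet.subset hsupp, ?_⟩
  rw [finsum_eq_sum_of_support_subset _ hsupp]
  have h := trace_formula_place hFF hε Qs hQs (fun Q _ => hφ Q) (u * c) (AdjoinSimple.gen k z)
  rw [ha] at h
  simp only [locRes_change (φ _) hc]
  refine h.symm.trans ?_
  rw [LocRes.locRes, LocRes.resExp, ← aeval_algHom_apply, hεg, Derivation.leibniz_inv, D_var, smul_eq_mul, mul_one]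
  have hres : ∀ q : k[X], LocRes.res k (aeval (var k)⁻¹ q * -(var k)⁻¹ ^ 2) = 0 := by
    intro q
    induction q using Polynomial.induction_on' with
    | add p q hp hq => rw [map_add, add_mul, map_add, hp, hq, add_zero]
    | monomial n d =>
      rw [aeval_monomial, algebraMap_laurent, mul_assoc, res_C_mul', mul_neg, ← pow_add, map_neg, LocRes.res_apply,
        inv_pow, ← zpow_natCast, ← zpow_neg]
      rw [show (var k) ^ (-((n + 2 : ℕ) : ℤ)) = HahnSeries.single (-((n + 2 : ℕ) : ℤ)) (1 : k) by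
        rw [single_eq, map_one, one_mul], HahnSeries.coeff_single, if_neg (by push_cast; omega)]
      simp
  rw [hres a, map_zero]

end Groth.Agent.H23Res
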