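import Mathlib
import Groth.Agent.H23Res.ResidueThm
import Groth.Agent.H23Diff.SepCoeff
import Groth.Agent.H23FunFld.Weil
import Groth.Agent.H23Geom.Unram
import Groth.Agent.H23Geom.Criteria

/-!
The Weil differential of a differential, through residues.
-/

set_option autoImplicit false
set_option linter.unusedSectionVars false
set_option linter.style.haveILetI false

universe u v w

namespace Groth.Agent.H23Res

open WithZero Polynomial IntermediateField

variable {k : Type u} {K : Type v} [Field k] [Field K] [Algebra k K] (hK : FunFld.IsFunctionField k K)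
  (hg : FunFld.IsGeometric k K)
  {F : FunFld.Place k K → Type w} [∀ P, Field (F P)] [∀ P, Algebra k (F P)]
  {φ : ∀ P, K →ₐ[k] LaurentSeries (F P)} (hφ : ∀ P, LocRes.IsExpansionAt P.1 (φ P))
include hK hg hφ

/-- Through a local parameter. -/
theorem vDiff_eq_param (P : FunFld.Place k K) (v : K) : ∃ c : K, (KaehlerDifferential.D k K v ≠ 0 → c ≠ 0) ∧
    ∀ u : K, LocRes.vDiff (φ P) u v = P.1 (u * c) := by
  obtain ⟨t, -, ht⟩ := Groth.Agent.H23FunFld.exists_val_eq P (-1)
  obtain ⟨c, hc⟩ := Groth.Agent.H23Diff.exists_ratio hK hg (Groth.Agent.H23Diff.D_ne_zero_param (hφ P) ht) v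
  exact ⟨c, fun hv => Groth.Agent.H23Diff.ratio_ne_zero hv hc, fun u => Groth.Agent.H23Diff.vDiff_eq (hφ P) ht u hc⟩

theorem vDiff_ne_zero (P : FunFld.Place k K) {u v : K} (hu : u ≠ 0) (hv : KaehlerDifferential.D k K v ≠ 0) :
    LocRes.vDiff (φ P) u v ≠ 0 := by
  obtain ⟨c, hc, h⟩ := vDiff_eq_param hK hg hφ P v
  rw [h]
  exact Groth.Agent.H23FunFld.val_ne_zero P (mul_ne_zero hu (hc hv))

theorem vDiff_eq_exp (P : FunFld.Place k K) {u v : K} (hu : u ≠ 0) (hv : KaehlerDifferential.D k K v ≠ 0) :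
    LocRes.vDiff (φ P) u v = exp (-LocRes.ordDiff (φ P) u v) := by
  rw [LocRes.ordDiff, neg_neg, exp_log (vDiff_ne_zero hK hg hφ P hu hv)]

/-- The order of a differential is zero almost everywhere. -/
theorem finite_support_ordDiff {u v : K} (hu : u ≠ 0) (hv : KaehlerDifferential.D k K v ≠ 0) :
    (Function.support fun P => LocRes.ordDiff (φ P) u v).Finite := by
  obtain ⟨z, hz, hsep⟩ := Groth.Agent.H23Geom.exists_separating hK hg
  haveI := hsep
  haveI := Groth.Agent.H23FunFld.finiteDimensional_adjoin hK hz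
  have hzD := Groth.Agent.H23Geom.D_ne_zero hK (x := z)
  obtain ⟨c, hc⟩ := Groth.Agent.H23Diff.exists_ratio hK hg hzD v
  have hc0 := Groth.Agent.H23Diff.ratio_ne_zero hv hc
  obtain ⟨hE, -⟩ := Groth.Agent.H23Geom.isGeometric_of_le hK hg (adjoin k ({z} : Set K))
    ⟨z, mem_adjoin_simple_self k z, hz⟩
  obtain ⟨S, hS, hbad⟩ := Groth.Agent.H23Geom.exists_bad (K' := K) hE
  refine ((hS.union (Groth.Agent.H23FunFld.finite_support_ord hK z)).union
    (Groth.Agent.H23FunFld.finite_support_ord hK (u * c))).subset fun P hP => ?_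
  by_contra hno
  simp only [Set.mem_union, Function.mem_support, ne_eq, not_or, not_not] at hno
  obtain ⟨⟨hPS, hPz⟩, hPuc⟩ := hno
  have hz0 : z ≠ 0 := fun h => hz (h ▸ isAlgebraic_zero)
  have hz1 : P.1 z ≤ 1 := (Groth.Agent.H23FunFld.val_le_one_iff P hz0).2 hPz.ge
  obtain ⟨R, hR⟩ := Groth.Agent.H23Ext.exists_below (K := adjoin k ({z} : Set K)) hE.1 P
  have he : ∀ f, P.1 (algebraMap (adjoin k ({z} : Set K)) K f) = R.1 f ^ 1 := (hbad P hPS R hR).1
  have hq1 : ∀ q : k[X], P.1 (aeval z q) ≤ 1 := fun q => by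
    rw [aeval_eq_sum_range]
    refine P.1.map_sum_le fun i _ => ?_
    rw [Algebra.smul_def, map_mul, map_pow]
    exact mul_le_one' (P.2.1 _) (pow_le_one₀ zero_le hz1)
  have hval : ∀ q : k[X], P.1 (aeval z q) = R.1 (aeval (AdjoinSimple.gen k z) q) := fun q => by
    rw [← pow_one (R.1 _), ← he]
    exact congrArg P.1 (coe_aeval_gen q).symm
  -- an irreducible polynomial giving a parameter
  obtain ⟨p, hp, hpv⟩ : ∃ p : k[X], Irreducible p ∧ P.1 (aeval z p) < 1 := by
    by_contra hno
    have hall : ∀ q : k[X], q ≠ 0 → P.1 (aeval z q) = 1 := by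
      intro q
      induction q using UniqueFactorizationMonoid.induction_on_prime with
      | h₁ => intro h; exact absurd rfl h
      | h₂ q hu' =>
        intro _
        obtain ⟨d, hd, rfl⟩ := Polynomial.isUnit_iff.1 hu'
        rw [aeval_C]
        exact Groth.Agent.H23FunFld.val_const P hd.ne_zero
      | h₃ q p hq hp ih =>
        intro _
        rw [map_mul, map_mul, ih hq, mul_one]
        exact le_antisymm (hq1 p) (not_lt.1 fun h => hno ⟨p, hp.irreducible, h⟩)
    obtain ⟨f, hf⟩ := R.2.2 (exp (-1))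
    obtain ⟨a, b, hb, rfl⟩ := exists_frac f
    rcases eq_or_ne a 0 with rfl | ha
    · rw [map_zero, zero_div, map_zero] at hf; exact exp_ne_zero hf.symm
    rw [map_div₀, ← hval, ← hval, hall a ha, hall b hb, div_one, ← exp_zero, exp_inj] at hf
    omega
  have hother : ∀ q : k[X], ¬ p ∣ q → P.1 (aeval z q) = 1 := by
    intro q hq
    obtain ⟨a, b, hab⟩ := (hp.coprime_iff_not_dvd).2 hq
    refine le_antisymm (hq1 q) (not_lt.1 fun hlt => ?_)
    have h := congrArg (fun f => P.1 (aeval z f)) hab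
    simp only [map_add, map_mul, map_one] at h
    refine lt_irrefl (1 : WithZero (Multiplicative ℤ)) (h.symm.trans_lt ((P.1.map_add _ _).trans_lt (max_lt ?_ ?_)))
    · rw [map_mul]; exact lt_of_le_of_lt (mul_le_of_le_one_left zero_le (hq1 a)) hpv
    · rw [map_mul]; exact lt_of_le_of_lt (mul_le_of_le_one_left zero_le (hq1 b)) hlt
  have hpow : ∀ q : k[X], q ≠ 0 → ∃ n : ℕ, P.1 (aeval z q) = P.1 (aeval z p) ^ n := fun q hq => by
    obtain ⟨n, r, hr, rfl⟩ := WfDvdMonoid.max_power_factor hq hp
    exact ⟨n, by rw [map_mul, map_mul, map_pow, map_pow, hother r hr, mul_one]⟩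
  have hparam : P.1 (aeval z p) = exp (-1) := by
    obtain ⟨f, hf⟩ := R.2.2 (exp (-1))
    obtain ⟨a, b, hb, rfl⟩ := exists_frac f
    rcases eq_or_ne a 0 with rfl | ha
    · rw [map_zero, zero_div, map_zero] at hf; exact absurd hf.symm exp_ne_zero
    obtain ⟨n, hn⟩ := hpow a ha
    obtain ⟨m, hm⟩ := hpow b hb
    have hne : P.1 (aeval z p) ≠ 0 := Groth.Agent.H23FunFld.val_ne_zero P fun h =>
      hz ⟨p, hp.ne_zero, h⟩
    rw [map_div₀, ← hval, ← hval, hn, hm, ← exp_log hne, ← exp_nsmul, ← exp_nsmul, ← exp_sub, exp_inj] at hf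
    have hneg : log (P.1 (aeval z p)) < 0 := exp_lt_exp.1 (by rw [exp_log hne, exp_zero]; exact hpv)
    rw [← exp_log hne]
    congr 1
    simp only [nsmul_eq_mul] at hf
    rcases Int.eq_one_or_neg_one_of_mul_eq_neg_one
      (show log (P.1 (aeval z p)) * ((n : ℤ) - m) = -1 by rw [← hf]; ring) with h | h <;> omega
  -- the differential of the separating element is a unit
  have hDz : LocRes.vDiff (φ P) 1 z = 1 := by
    have hzv : Valued.v (φ P z) ≤ 1 := ((hφ P).1 z).trans_le hz1
    refine le_antisymm (by rw [LocRes.vDiff, map_one, one_mul]; exact val_D_le_one hzv) ?_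
    have h := Groth.Agent.H23Diff.val_D_param (hφ P) hparam
    have hD : KaehlerDifferential.D k K (aeval z p) = aeval z (derivative p) • KaehlerDifferential.D k K z :=
      Derivation.map_aeval _ _ _
    rw [Groth.Agent.H23Diff.D_exp_eq (φ P) hD, map_mul, (hφ P).1] at h
    rw [LocRes.vDiff, map_one, one_mul, ← h]
    exact mul_le_of_le_one_left zero_le (hq1 _)
  refine hP ?_
  change LocRes.ordDiff (φ P) u v = 0
  rw [LocRes.ordDiff, Groth.Agent.H23Diff.vDiff_eq_mul (φ P) u hc, hDz, mul_one, (hφ P).1]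
  exact hPuc

variable [∀ P, FiniteDimensional k (F P)]

theorem exists_weil {u v : K} (hu : u ≠ 0) (hv : KaehlerDifferential.D k K v ≠ 0) :
    ∃ ω : Module.Dual k (FunFld.adele k K),
      (∀ a : FunFld.adele k K, (Function.support fun P => LocRes.locRes (φ P) ((a : FunFld.Place k K → K) P * u) v).Finite ∧
        ω a = ∑ᶠ P, LocRes.locRes (φ P) ((a : FunFld.Place k K → K) P * u) v) ∧
      ∀ C : FunFld.Divisor k K, (∀ P, C P = LocRes.ordDiff (φ P) u v) → FunFld.IsDivOf ω C := by
  classical
  haveI : ∀ P, Algebra.IsSeparable k (F P) := fun P => Groth.Agent.H23Diff.isSeparable_coeff hK hg (hφ P)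
  let C₀ : FunFld.Divisor k K := Finsupp.ofSupportFinite _ (finite_support_ordDiff hK hg hφ hu hv)
  have hC₀ : ∀ P, C₀ P = LocRes.ordDiff (φ P) u v := fun P => rfl
  have hzero : ∀ (P : FunFld.Place k K) (b : K), P.1 b ≤ exp (C₀ P) → LocRes.locRes (φ P) (b * u) v = 0 := by
    intro P b hb
    rw [LocRes.locRes, LocRes.resExp, res_eq_zero, map_zero]
    rw [map_mul (φ P), mul_assoc, map_mul, (hφ P).1]
    refine (mul_le_mul' hb le_rfl).trans_eq ?_
    rw [show Valued.v (φ P u * LocRes.D (F P) (φ P v)) = LocRes.vDiff (φ P) u v from rfl,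
      vDiff_eq_exp hK hg hφ P hu hv, hC₀, ← exp_add, add_neg_cancel, exp_zero]
  have hfin : ∀ a : FunFld.adele k K,
      (Function.support fun P => LocRes.locRes (φ P) ((a : FunFld.Place k K → K) P * u) v).Finite := fun a => by
    refine ((Filter.eventually_cofinite.1 a.2).union C₀.finite_support).subset fun P hP => ?_
    by_contra hno
    simp only [Set.mem_union, Set.mem_ofPred_eq, Function.mem_support, not_or, not_not] at hno
    exact hP (hzero P _ (by rw [hno.2, exp_zero]; exact hno.1))
  have hlin : ∀ P, ∃ L : K →ₗ[k] k, ∀ a, L a = LocRes.locRes (φ P) (a * u) v := fun P =>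
    ⟨{ toFun := fun a => LocRes.locRes (φ P) (a * u) v
       map_add' := fun a b => by
         simp only [LocRes.locRes, ← LocRes.resOmega_smul_D, add_mul, add_smul, map_add]
       map_smul' := fun c a => by
         simp only [LocRes.locRes, ← LocRes.resOmega_smul_D, smul_mul_assoc, smul_assoc, map_smul,
           RingHom.id_apply] }, fun a => rfl⟩
  choose L hL using hlin
  let ω : Module.Dual k (FunFld.adele k K) :=
    { toFun := fun a => ∑ᶠ P, L P ((a : FunFld.Place k K → K) P)
      map_add' := fun a b => by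
        simp only [Submodule.coe_add, Pi.add_apply, map_add]
        exact finsum_add_distrib (by simpa only [Function.HasFiniteSupport, hL] using hfin a)
          (by simpa only [Function.HasFiniteSupport, hL] using hfin b)
      map_smul' := fun c a => by
        simp only [SetLike.val_smul, Pi.smul_apply, map_smul, RingHom.id_apply]
        exact (smul_finsum c _).symm }
  have hω : ∀ a : FunFld.adele k K, ω a = ∑ᶠ P, LocRes.locRes (φ P) ((a : FunFld.Place k K → K) P * u) v :=
    fun a => finsum_congr fun P => hL P _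
  refine ⟨ω, fun a => ⟨hfin a, hω a⟩, fun C hC => ?_⟩
  obtain rfl : C = C₀ := Finsupp.ext fun P => by rw [hC, hC₀]
  intro E
  constructor
  · intro hE P
    by_contra hlt
    rw [not_le] at hlt
    obtain ⟨b, hb0, hbv⟩ := Groth.Agent.H23FunFld.exists_val_eq P (C₀ P + 1)
    set w := φ P (b * u) * LocRes.D (F P) (φ P v) with hw
    have hwv : Valued.v w = exp (1 : ℤ) := by
      rw [hw, map_mul (φ P), mul_assoc, map_mul, (hφ P).1, hbv,
        show Valued.v (φ P u * LocRes.D (F P) (φ P v)) = LocRes.vDiff (φ P) u v from rfl,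
        vDiff_eq_exp hK hg hφ P hu hv, hC₀, ← exp_add]
      congr 1; ring
    have hw1 : w.coeff (-1) ≠ 0 := fun h0 => by
      have h2 : Valued.v w ≤ exp (-(0 : ℤ)) := (val_le_iff 0).2 fun n hn => by
        rcases eq_or_ne n (-1) with rfl | hne
        · exact h0
        · exact (val_le_iff (-1)).1 (by rw [hwv, neg_neg]) n (by omega)
      rw [hwv, exp_le_exp] at h2; omega
    refine Algebra.trace_ne_zero k (F P) (LinearMap.ext fun x => ?_)
    obtain ⟨s, hs, hs0⟩ := (hφ P).2.1 (x / w.coeff (-1))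
    let a : FunFld.Place k K → K := Pi.single P (s * b)
    have haE : a ∈ FunFld.AD E := fun R => by
      rcases eq_or_ne R P with rfl | hne
      · simp only [a, Pi.single_eq_same, map_mul, hbv]
        exact (mul_le_of_le_one_left zero_le hs).trans (exp_le_exp.2 (by omega))
      · simp [a, Pi.single_eq_of_ne hne]
    have h := (Groth.Agent.H23FunFld.mem_WD_iff.1 hE) ⟨a, Groth.Agent.H23FunFld.AD_le_adele E haE⟩
      (Submodule.mem_sup_left haE)
    rw [hω, finsum_eq_single _ P (fun R hR => by simp [a, Pi.single_eq_of_ne hR, LocRes.locRes, LocRes.resExp])] at h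
    rw [LinearMap.zero_apply, ← h, LocRes.locRes, LocRes.resExp]
    congr 1
    simp only [a, Pi.single_eq_same]
    rw [mul_assoc s b u, map_mul (φ P) s, mul_assoc, ← hw,
      show φ P s = HahnSeries.C (x / w.coeff (-1)) + (φ P s - HahnSeries.C (x / w.coeff (-1))) by ring,
      add_mul, map_add (LocRes.res _), res_C_mul', res_eq_zero (f := (φ P s - HahnSeries.C (x / w.coeff (-1))) * w),
      add_zero, LocRes.res_apply, div_mul_cancel₀ _ hw1]
    rw [map_mul, hwv]
    refine (mul_le_mul' (val_le_of_coeff_zero ((Valued.v.map_sub _ _).trans (max_le (((hφ P).1 s).trans_le hs)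
      (val_C_le _))) (by rw [HahnSeries.coeff_sub, hs0]; simp)) le_rfl).trans_eq ?_
    rw [← exp_add, neg_add_cancel, exp_zero]
  · intro hle
    refine Groth.Agent.H23FunFld.mem_WD_iff.2 fun a ha => ?_
    obtain ⟨b, hb, _, ⟨f, rfl⟩, hab⟩ := Submodule.mem_sup.1 ha
    rw [hω, finsum_congr (fun P => show LocRes.locRes (φ P) ((a : FunFld.Place k K → K) P * u) v =
        LocRes.locRes (φ P) (f * u) v by
      rw [← hab, Pi.add_apply, ← hL, map_add, hL, hL, hzero P (b P) ((hb P).trans (exp_le_exp.2 (hle P))), zero_add]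
      rfl)]
    exact (residue_theorem hK hφ hg (f * u) v).2

end Groth.Agent.H23Res
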