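import Mathlib
import Groth.Agent.H23Res.WeilFun

/-!
Differentials with bounded divisor.
-/

set_option autoImplicit false
set_option linter.unusedSectionVars false
set_option linter.style.haveILetI false

universe u v w

namespace Groth.Agent.H23Res

open WithZero Groth.Agent.H23FunFld

variable {k : Type u} {K : Type v} [Field k] [Field K] [Algebra k K] (hK : FunFld.IsFunctionField k K)
  (hg : FunFld.IsGeometric k K)
  {F : FunFld.Place k K → Type w} [∀ P, Field (F P)] [∀ P, Algebra k (F P)] [∀ P, FiniteDimensional k (F P)]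
  {φ : ∀ P, K →ₐ[k] LaurentSeries (F P)} (hφ : ∀ P, LocRes.IsExpansionAt P.1 (φ P))
include hK hg hφ

/-- The functional and divisor of `dv`. -/
theorem exists_weil_dv {v : K} (hv : KaehlerDifferential.D k K v ≠ 0) :
    ∃ (ω : Module.Dual k (FunFld.adele k K)) (C : FunFld.Divisor k K), FunFld.IsDivOf ω C ∧
      FunFld.IsCanonical k K C ∧ (∀ P y, LocRes.vDiff (φ P) y v = P.1 y * exp (-C P)) ∧
      ∀ (x : K) (a : FunFld.adele k K),
        (Function.support fun P => LocRes.locRes (φ P) ((a : FunFld.Place k K → K) P * x) v).Finite ∧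
        mulWMap hK ω x a = ∑ᶠ P, LocRes.locRes (φ P) ((a : FunFld.Place k K → K) P * x) v := by
  obtain ⟨ω, hω, hdiv⟩ := exists_weil hK hg hφ (one_ne_zero : (1 : K) ≠ 0) hv
  let C : FunFld.Divisor k K :=
    Finsupp.ofSupportFinite _ (finite_support_ordDiff hK hg hφ (one_ne_zero : (1 : K) ≠ 0) hv)
  have hC : ∀ P, C P = LocRes.ordDiff (φ P) 1 v := fun P => rfl
  have hd := hdiv C hC
  refine ⟨ω, C, hd, ⟨ω, IsDivOf_ne_zero hK hd, hd⟩, fun P y => ?_, fun x a => ?_⟩
  · rw [hC, ← vDiff_eq_exp hK hg hφ P (one_ne_zero : (1 : K) ≠ 0) hv, ← (hφ P).1]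
    simp only [LocRes.vDiff, map_one, one_mul, map_mul]
  · obtain ⟨h1, h2⟩ := hω ⟨x • (a : FunFld.Place k K → K), smul_mem_adele hK a.2⟩
    have e : ∀ P, (x • (a : FunFld.Place k K → K)) P * 1 = (a : FunFld.Place k K → K) P * x := fun P => by
      rw [Pi.smul_apply, smul_eq_mul, mul_one, mul_comm]
    simp only [e] at h1 h2
    exact ⟨h1, h2⟩

/-- Differentials with divisor at least `D` form a translate of a Riemann-Roch space. -/
theorem span_eq_L {v : K} (hv : KaehlerDifferential.D k K v ≠ 0) :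
    ∃ C : FunFld.Divisor k K, FunFld.IsCanonical k K C ∧
      (∀ D : FunFld.Divisor k K, Module.finrank k (FunFld.WD D) = FunFld.ell (C - D)) ∧
      (∀ (D : FunFld.Divisor k K) (y : K), (∀ P, LocRes.vDiff (φ P) y v ≤ exp (-(D P))) ↔ y ∈ FunFld.L (C - D)) ∧
      ∀ y : K, y ≠ 0 → ((∀ P, LocRes.vDiff (φ P) y v = 1) ↔ C + FunFld.div k y = 0) := by
  obtain ⟨ω, C, hd, hcan, hval, -⟩ := exists_weil_dv hK hg hφ hv
  refine ⟨C, hcan, fun D => ?_, fun D y => forall_congr' fun P => ?_, fun y hy => ?_⟩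
  · rw [← mulW_L_onto_WD hK hd D]
    exact ((FunFld.L (C - D)).equivMapOfInjective _ (mulWMap_injective hK (IsDivOf_ne_zero hK hd))).finrank_eq.symm
  · rw [hval, Finsupp.sub_apply, exp_neg (C P), ← div_eq_mul_inv, div_le_iff₀ exp_pos, ← exp_add, neg_add_eq_sub]
  · rw [Finsupp.ext_iff]
    refine forall_congr' fun P => ?_
    rw [hval, Finsupp.add_apply, div_apply hK, Finsupp.zero_apply, val_eq_exp P hy, ← exp_add, ← exp_zero, exp_inj]
    omega

end Groth.Agent.H23Res
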