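import Mathlib
import Groth.Agent.H23Res.RegDiff
import Groth.Agent.H23Ext.OverFF
import Groth.Agent.H23Diff.Setup

/-!
The Hurwitz formula through expansions.
-/

set_option autoImplicit false
set_option linter.unusedSectionVars false
set_option linter.style.haveILetI false

universe u v w

namespace Groth.Agent.H23Res

open WithZero Groth.Agent.H23FunFld Groth.Agent.H23Ext

variable {k : Type u} {K : Type v} [Field k] [Field K] [Algebra k K] {F : Type w} [Field F] [Algebra k F]

theorem finite_coeff (hK : FunFld.IsFunctionField k K) {P : FunFld.Place k K} {φ : K →ₐ[k] LaurentSeries F}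
    (hφ : LocRes.IsExpansionAt P.1 φ) : FiniteDimensional k F :=
  Module.finite_of_finrank_pos (deg_eq_finrank hφ ▸ deg_pos hK P)

variable {k' : Type u} {K' : Type v} [Field k'] [Field K'] [Algebra k k'] [Algebra K K'] [Algebra k' K'] [Algebra k K']
  [IsScalarTower k k' K'] [IsScalarTower k K K']

/-- A place over the larger constants, over the smaller. -/
def toBase (k : Type u) [Field k] [Algebra k k'] [Algebra k K'] [IsScalarTower k k' K']
    (Q : FunFld.Place k' K') : FunFld.Place k K' :=
  ⟨Q.1, fun c => by rw [IsScalarTower.algebraMap_apply k k' K']; exact Q.2.1 _, Q.2.2⟩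

theorem toBase_injective : Function.Injective (toBase k : FunFld.Place k' K' → FunFld.Place k K') :=
  fun _ _ h => Subtype.ext (Subtype.ext_iff.1 h :)

variable [FiniteDimensional k k']

theorem toBase_surjective : Function.Surjective (toBase k : FunFld.Place k' K' → FunFld.Place k K') := by
  intro R
  refine ⟨⟨R.1, fun c => ?_, R.2.2⟩, Subtype.ext rfl⟩
  rcases eq_or_ne c 0 with rfl | hc
  · simp
  · by_contra h
    have h1 := transcendental_of_val_ne_one R (x := algebraMap k' K' c) ((map_ne_zero _).2 hc)
      fun h' => h h'.le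
    exact h1 ((Algebra.IsAlgebraic.isAlgebraic (R := k) c).algebraMap)

theorem deg_toBase (Q : FunFld.Place k' K') : (toBase k Q).deg = Module.finrank k k' * Q.deg := by
  letI algk : Algebra k (IsLocalRing.ResidueField Q.O) := FunFld.Place.algRes (toBase k Q)
  letI : Module k (IsLocalRing.ResidueField Q.O) := algk.toModule
  letI : Module k' (IsLocalRing.ResidueField Q.O) := (FunFld.Place.algRes Q).toModule
  haveI : IsScalarTower k k' (IsLocalRing.ResidueField Q.O) := IsScalarTower.of_algebraMap_eq fun c =>
    congrArg (IsLocalRing.residue Q.O) (Subtype.ext (IsScalarTower.algebraMap_apply k k' K' c))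
  exact (Module.finrank_mul_finrank k k' (IsLocalRing.ResidueField Q.O)).symm

variable [FiniteDimensional K K'] (hK : IsFF k K) (below : FunFld.Place k' K' → FunFld.Place k K)
  (e : FunFld.Place k' K' → ℕ) (he : ∀ Q (z : K), Q.1 (algebraMap K K' z) = (below Q).1 z ^ e Q)
include hK he

theorem finite_fibre (P : FunFld.Place k K) : {Q | below Q = P}.Finite :=
  ((finite_isOver' (K' := K') hK P).preimage toBase_injective.injOn).subset fun Q hQ =>
    ⟨e Q, fun z => (he Q z).trans (by rw [hQ])⟩

/-- The pullback of a divisor has `n` times its degree. -/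
theorem sum_pullback (C : FunFld.Divisor k K) :
    (Function.support fun Q => (e Q : ℤ) * C (below Q)).Finite ∧
      (Module.finrank k k' : ℤ) * ∑ᶠ Q, (e Q : ℤ) * C (below Q) * (Q.deg : ℤ) = Module.finrank K K' * C.deg := by
  classical
  let fib := fun P => (finite_fibre hK below e he P).toFinset
  have hfib : ∀ P Q, Q ∈ fib P ↔ below Q = P := fun P Q => Set.Finite.mem_toFinset _
  set U := C.support.biUnion fib
  have hsub : (Function.support fun Q => (e Q : ℤ) * C (below Q)) ⊆ ↑U := fun Q hQ => by
    simp only [Function.mem_support, ne_eq, mul_eq_zero, not_or] at hQ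
    exact Finset.mem_coe.2 (Finset.mem_biUnion.2 ⟨below Q, Finsupp.mem_support_iff.2 hQ.2, (hfib _ Q).2 rfl⟩)
  refine ⟨U.finite_toSet.subset hsub, ?_⟩
  rw [finsum_eq_sum_of_support_subset _ (s := U) (fun Q hQ => hsub (left_ne_zero_of_mul hQ)),
    Finset.mul_sum, Finset.sum_biUnion (fun P _ P' _ hne => Finset.disjoint_left.2 fun Q hQ hQ' =>
      hne (((hfib P Q).1 hQ).symm.trans ((hfib P' Q).1 hQ'))),
    FunFld.Divisor.deg, Finsupp.sum, Finset.mul_sum]
  refine Finset.sum_congr rfl fun P _ => ?_
  have hover : ∀ R, R ∈ (fib P).image (toBase k) ↔ FunFld.IsOver R P := by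
    intro R
    obtain ⟨Q, rfl⟩ := toBase_surjective (k := k) (k' := k') R
    rw [toBase_injective.mem_finset_image, hfib]
    have hov : FunFld.IsOver (toBase k Q) (below Q) := ⟨e Q, he Q⟩
    exact ⟨fun h => h ▸ hov, fun h => isOver_unique hov h⟩
  have h := congrArg (fun n : ℕ => (n : ℤ)) (sum_ramIdx_mul_deg' hK P _ hover)
  rw [Finset.sum_image toBase_injective.injOn] at h
  push_cast at h
  rw [mul_comm (C P), ← mul_assoc, ← h, Finset.sum_mul]
  refine Finset.sum_congr rfl fun Q hQ => ?_
  have hQP := (hfib P Q).1 hQ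
  simp only []
  rw [ramIdx_eq (show FunFld.IsOverWith (toBase k Q) P (e Q) from fun z => (he Q z).trans (by rw [hQP])),
    deg_toBase, hQP]
  push_cast
  ring

end Groth.Agent.H23Res
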