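import Mathlib
import Groth.Agent.H23Res.RatExp
import Groth.Agent.H23FunFld.Basic

/-!
Parameters at a place unramified over the rational subfield.
-/

set_option autoImplicit false
set_option linter.unusedSectionVars false

universe u v

namespace Groth.Agent.H23Res

open WithZero Polynomial IntermediateField

variable {k : Type u} {K : Type v} [Field k] [Field K] [Algebra k K]

/-- An irreducible polynomial vanishing at an unramified place gives a parameter. -/
theorem val_param {z : K} (hz : Transcendental k z) {P : FunFld.Place k K}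
    {R : FunFld.Place k (adjoin k ({z} : Set K))}
    (he : ∀ f, P.1 (algebraMap (adjoin k ({z} : Set K)) K f) = R.1 f) (hz1 : P.1 z ≤ 1)
    {p : k[X]} (hp : Irreducible p) (hpv : P.1 (aeval z p) < 1) : P.1 (aeval z p) = exp (-1) := by
  have hq1 : ∀ q : k[X], P.1 (aeval z q) ≤ 1 := fun q => by
    rw [aeval_eq_sum_range]
    refine P.1.map_sum_le fun i _ => ?_
    rw [Algebra.smul_def, map_mul, map_pow]
    exact mul_le_one' (P.2.1 _) (pow_le_one₀ zero_le hz1)
  have hval : ∀ q : k[X], P.1 (aeval z q) = R.1 (aeval (AdjoinSimple.gen k z) q) := fun q => by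
    rw [← he]
    exact congrArg P.1 (coe_aeval_gen q).symm
  have hother : ∀ q : k[X], ¬ p ∣ q → P.1 (aeval z q) = 1 := by
    intro q hq
    obtain ⟨a, b, hab⟩ := (hp.coprime_iff_not_dvd).2 hq
    refine le_antisymm (hq1 q) (not_lt.1 fun hlt => ?_)
    have h := congrArg (fun f => P.1 (aeval z f)) hab
    simp only [map_add, map_mul, map_one] at h
    refine lt_irrefl (1 : WithZero (Multiplicative ℤ)) (h.symm.trans_lt ((P.1.map_add _ _).trans_lt (max_lt ?_ ?_)))
    · rw [map_mul]; exact lt_of_le_of_lt (mul_le_of_le_one_left zero_le (hq1 a)) hpv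
    · rw [map_mul]; exact lt_of_le_of_lt (mul_le_of_le_one_left zero_le (hq1 b)) hlt
  have hpow : ∀ q : k[X], q ≠ 0 → ∃ n : ℕ, P.1 (aeval z q) = P.1 (aeval z p) ^ n := fun q hq => by
    obtain ⟨n, r, hr, rfl⟩ := WfDvdMonoid.max_power_factor hq hp
    exact ⟨n, by rw [map_mul, map_mul, map_pow, map_pow, hother r hr, mul_one]⟩
  obtain ⟨f, hf⟩ := R.2.2 (exp (-1))
  obtain ⟨a, b, hb, rfl⟩ := exists_frac f
  rcases eq_or_ne a 0 with rfl | ha
  · rw [map_zero, zero_div, map_zero] at hf; exact absurd hf.symm exp_ne_zero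
  obtain ⟨n, hn⟩ := hpow a ha
  obtain ⟨m, hm⟩ := hpow b hb
  have hne : P.1 (aeval z p) ≠ 0 := Groth.Agent.H23FunFld.val_ne_zero P fun h =>
    hz ⟨p, hp.ne_zero, h⟩
  rw [map_div₀, ← hval, ← hval, hn, hm, ← exp_log hne, ← exp_nsmul, ← exp_nsmul, ← exp_sub, exp_inj] at hf
  have hneg : log (P.1 (aeval z p)) < 0 := exp_lt_exp.1 (by rw [exp_log hne, exp_zero]; exact hpv)
  rw [← exp_log hne]
  congr 1
  simp only [nsmul_eq_mul] at hf
  rcases Int.eq_one_or_neg_one_of_mul_eq_neg_one
    (show log (P.1 (aeval z p)) * ((n : ℤ) - m) = -1 by rw [← hf]; ring) with h | h <;> omega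

end Groth.Agent.H23Res
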